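import Cfsg.Agent.Lib.Classical.TensorSymp.Forms

set_option autoImplicit false
set_option linter.unusedSectionVars false

/-!
The isometry group of an alternating matrix is generated by transvections.
-/

namespace CfsgLib.Classical.TensorWreathO

open Matrix
open CfsgLib.Classical.TensorSymp (Sp AForm tv)

variable {F : Type*} [Field F] [Finite F] {γ : Type} [Fintype γ] [DecidableEq γ] {J : Matrix γ γ F}

/-- The fixed space. -/
def fixSub (T : Matrix γ γ F) : Submodule F (γ → F) := LinearMap.ker (T - 1).mulVecLin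

theorem mem_fixSub {T : Matrix γ γ F} {x : γ → F} : x ∈ fixSub T ↔ T *ᵥ x = x := by
  rw [fixSub, LinearMap.mem_ker, Matrix.mulVecLin_apply, Matrix.sub_mulVec, Matrix.one_mulVec, sub_eq_zero]

/-- A subspace meets a functional which does not vanish outside. -/
theorem exists_orth_ne (hJ : AForm J) (W : Submodule F (γ → F)) {x : γ → F} (hx : x ∉ W) :
    ∃ d, (∀ w ∈ W, (J *ᵥ w) ⬝ᵥ d = 0) ∧ (J *ᵥ x) ⬝ᵥ d ≠ 0 := by
  classical
  obtain ⟨φ, hφx, hφW⟩ := Submodule.exists_le_ker_of_notMem hx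
  obtain ⟨r, hr⟩ : ∃ r : γ → F, ∀ y, φ y = r ⬝ᵥ y := by
    refine ⟨fun i => φ (Pi.single i 1), fun y => ?_⟩
    conv_lhs => rw [pi_eq_sum_univ' y]
    rw [map_sum, dotProduct]
    exact Finset.sum_congr rfl fun i _ => by rw [map_smul, smul_eq_mul, mul_comm]
  obtain ⟨d, hd⟩ : ∃ d, d = J⁻¹ *ᵥ r := ⟨_, rfl⟩
  have key : ∀ y, (J *ᵥ y) ⬝ᵥ d = -φ y := fun y => by
    rw [hJ.swap, hd, Matrix.mulVec_mulVec, Matrix.mul_nonsing_inv J hJ.isUnit_det, Matrix.one_mulVec, hr]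
  refine ⟨d, fun w hw => by rw [key, LinearMap.mem_ker.1 (hφW hw), neg_zero], ?_⟩
  rw [key]
  exact neg_ne_zero.2 hφx

/-- Induction along products of transvections. -/
theorem sp_induction (hJ : AForm J) (P : Matrix γ γ F → Prop) (h1 : P 1)
    (hmul : ∀ S T, P S → P T → P (S * T)) (htv : ∀ u c, P (tv J u c)) {T : Matrix γ γ F} (hT : Sp J T) : P T := by
  classical
  suffices ∀ (n : ℕ) (T : Matrix γ γ F), Fintype.card γ - Module.finrank F (fixSub T) = n → Sp J T → P T from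
    this _ T rfl hT
  intro n
  induction n using Nat.strong_induction_on with
  | _ n IH =>
  intro T hn hT
  by_cases hfix : ∀ x, T *ᵥ x = x
  · have : T = 1 := Matrix.ext_iff_mulVec.2 fun x => by rw [hfix, Matrix.one_mulVec]
    rw [this]; exact h1
  push Not at hfix
  obtain ⟨x, hx⟩ := hfix
  -- a product of transvections fixing the fixed space and moving `x` to its image
  obtain ⟨W, hW⟩ : ∃ W, W = fixSub T := ⟨_, rfl⟩
  have hxW : x ∉ W := fun h => hx (mem_fixSub.1 (hW ▸ h))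
  have hTW : ∀ w ∈ W, T *ᵥ w = w := fun w hw => mem_fixSub.1 (hW ▸ hw)
  have hTxW : T *ᵥ x ∉ W := fun h => hx (by
    have e := hTW _ h
    have inj : Function.Injective (T *ᵥ ·) := fun a b hab => by
      have := congrArg (T⁻¹ *ᵥ ·) hab
      simpa [Matrix.mulVec_mulVec, mul_eq_one_comm.1 (hJ.sp_inv hT).1] using this
    exact inj e)
  have step : ∀ a b : γ → F, (∀ w ∈ W, (J *ᵥ w) ⬝ᵥ a = (J *ᵥ w) ⬝ᵥ x) → (∀ w ∈ W, (J *ᵥ w) ⬝ᵥ b = (J *ᵥ w) ⬝ᵥ x) →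
      ∀ c : F, ∀ w ∈ W, tv J (b - a) c *ᵥ w = w := fun a b ha hb c w hw => by
    rw [hJ.tv_apply, hJ.swap, dotProduct_sub, hb w hw, ha w hw, sub_self, neg_zero, mul_zero, zero_smul, add_zero]
  have hTx : ∀ w ∈ W, (J *ᵥ w) ⬝ᵥ (T *ᵥ x) = (J *ᵥ w) ⬝ᵥ x := fun w hw => by
    conv_lhs => rw [← hTW w hw]
    exact hJ.form_image hT w x
  obtain ⟨S, hPS, hS, hSW, hSx⟩ : ∃ S, P S ∧ Sp J S ∧ (∀ w ∈ W, S *ᵥ w = w) ∧ S *ᵥ x = T *ᵥ x := by
    by_cases hne : (J *ᵥ (T *ᵥ x)) ⬝ᵥ x = 0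
    · obtain ⟨a, a1, a2⟩ := exists_orth_ne hJ W hxW
      obtain ⟨b, b1, b2⟩ := exists_orth_ne hJ W hTxW
      haveI := Fintype.ofFinite W
      obtain ⟨d, hd, d1, d2⟩ := hJ.exists_both (κ := Fin (Fintype.card W))
        (l := J *ᵥ x) (m := J *ᵥ (T *ᵥ x))
        (fun i => J *ᵥ ((Fintype.equivFin W).symm i : γ → F)) ⟨a, fun i => a1 _ ((Fintype.equivFin W).symm i).2, a2⟩
        ⟨b, fun i => b1 _ ((Fintype.equivFin W).symm i).2, b2⟩
      have hdW : ∀ w ∈ W, (J *ᵥ w) ⬝ᵥ d = 0 := fun w hw => by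
        simpa using hd (Fintype.equivFin W ⟨w, hw⟩)
      obtain ⟨y, hy⟩ : ∃ y, y = x + d := ⟨_, rfl⟩
      have hyW : ∀ w ∈ W, (J *ᵥ w) ⬝ᵥ y = (J *ᵥ w) ⬝ᵥ x := fun w hw => by
        rw [hy, dotProduct_add, hdW w hw, add_zero]
      have y1 : (J *ᵥ y) ⬝ᵥ x ≠ 0 := by
        rw [hy, Matrix.mulVec_add, add_dotProduct, hJ.self, zero_add, hJ.swap]
        exact neg_ne_zero.2 d1
      have y2 : (J *ᵥ (T *ᵥ x)) ⬝ᵥ y ≠ 0 := by rw [hy, dotProduct_add, hne, zero_add]; exact d2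
      exact ⟨_, hmul _ _ (htv (T *ᵥ x - y) ((J *ᵥ (T *ᵥ x)) ⬝ᵥ y)⁻¹) (htv (y - x) ((J *ᵥ y) ⬝ᵥ x)⁻¹),
        hJ.sp_mul (hJ.sp_tv _ _) (hJ.sp_tv _ _), fun w hw => by
          rw [← Matrix.mulVec_mulVec, step x y (fun _ _ => rfl) hyW _ w hw, step y _ hyW hTx _ w hw],
        by rw [← Matrix.mulVec_mulVec, hJ.tv_move y1, hJ.tv_move y2]⟩
    · exact ⟨_, htv (T *ᵥ x - x) ((J *ᵥ (T *ᵥ x)) ⬝ᵥ x)⁻¹, hJ.sp_tv _ _,
        fun w hw => step x _ (fun _ _ => rfl) hTx _ w hw, hJ.tv_move hne⟩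
  obtain ⟨hS1, hS2⟩ := hJ.sp_inv hS
  have hS3 := mul_eq_one_comm.1 hS1
  obtain ⟨T', hT'⟩ : ∃ T', T' = S⁻¹ * T := ⟨_, rfl⟩
  have hle : W ⊔ F ∙ x ≤ fixSub T' := by
    refine sup_le (fun w hw => ?_) ((Submodule.span_singleton_le_iff_mem _ _).2 ?_)
    · rw [mem_fixSub, hT', ← Matrix.mulVec_mulVec, hTW w hw]
      conv_lhs => rw [← hSW w hw]
      rw [Matrix.mulVec_mulVec, hS3, Matrix.one_mulVec]
    · rw [mem_fixSub, hT', ← Matrix.mulVec_mulVec, ← hSx, Matrix.mulVec_mulVec, hS3, Matrix.one_mulVec]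
  have hlt : W < W ⊔ F ∙ x := lt_of_le_of_ne le_sup_left fun e => hxW (by
    rw [e]; exact Submodule.mem_sup_right (Submodule.mem_span_singleton_self x))
  have h3 := Submodule.finrank_lt_finrank_of_lt (hlt.trans_le hle)
  have h4 := Submodule.finrank_le (fixSub T')
  rw [Module.finrank_pi] at h4
  rw [← hW] at hn
  have := IH _ (by omega) T' rfl (hT' ▸ hJ.sp_mul hS2 hT)
  have e : T = S * T' := by rw [hT', ← Matrix.mul_assoc, hS1, Matrix.one_mul]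
  rw [e]
  exact hmul _ _ hPS this

end CfsgLib.Classical.TensorWreathO
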