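import Cfsg.Agent.Lib.Classical.TensorWreathS.Spread
import Cfsg.Agent.Lib.Classical.TensorWreathO.SpGen
import Cfsg.Agent.Lib.Classical.TensorSymp.Flag
import Cfsg.Agent.Lib.Classical.OrthFix

set_option autoImplicit false
set_option linter.unusedSectionVars false

/-!
Orthogonal groups of tensor powers of a symplectic space: the setting, and the elements of `Ω` which act factor
by factor.
-/

namespace CfsgLib.Classical.TensorWreathO

open Matrix CfsgLib.Classical.TensorWreath
open CfsgLib.Classical.TensorSymp (Sp AForm tv)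
open CfsgLib.Classical.TensorWreathS (JJ nu tnv tnv_dot pureM_mulVec_tnv sp_pureM sp_permM sp_embM det_JJ)
open CfsgLib.Orth (Grp Nondeg El ap q_add q_smul)
open scoped MatrixGroups Kronecker

variable {F : Type*} [Field F] [Finite F] {τ : Type} [Fintype τ] [DecidableEq τ] {m : ℕ}

theorem tnv_update_apply (x : τ → Fin m → F) (i : τ) (v : Fin m → F) (p : Ix τ m) :
    tnv (Function.update x i v) p = v (p i) * ∏ j ∈ Finset.univ.erase i, x j (p j) := by
  rw [tnv, ← Finset.mul_prod_erase _ _ (Finset.mem_univ i), Function.update_self]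
  exact congrArg _ (Finset.prod_congr rfl fun j hj => by rw [Function.update_of_ne (Finset.ne_of_mem_erase hj)])

theorem tnv_update_add (x : τ → Fin m → F) (i : τ) (v w : Fin m → F) :
    tnv (Function.update x i (v + w)) = tnv (Function.update x i v) + tnv (Function.update x i w) := by
  funext p
  simp [tnv_update_apply, add_mul]

theorem tnv_update_sub (x : τ → Fin m → F) (i : τ) (v w : Fin m → F) :
    tnv (Function.update x i (v - w)) = tnv (Function.update x i v) - tnv (Function.update x i w) := by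
  funext p
  simp [tnv_update_apply, sub_mul]

theorem tnv_update_smul (x : τ → Fin m → F) (i : τ) (c : F) (v : Fin m → F) :
    tnv (Function.update x i (c • v)) = c • tnv (Function.update x i v) := by
  funext p
  simp [tnv_update_apply, mul_assoc]

theorem tnv_eq_zero {x : τ → Fin m → F} {i : τ} (h : x i = 0) : tnv x = 0 :=
  funext fun p => Finset.prod_eq_zero (Finset.mem_univ i) (by rw [h]; rfl)

theorem single_eq_tnv (p : Ix τ m) :
    (Pi.single p (1 : F) : Ix τ m → F) = tnv fun j => Pi.single (p j) (1 : F) := by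
  funext q
  by_cases hq : q = p
  · subst hq; simp [tnv]
  · obtain ⟨j, hj⟩ := Function.ne_iff.1 hq
    rw [Pi.single_eq_of_ne hq, tnv, Finset.prod_eq_zero (Finset.mem_univ j)]
    exact Pi.single_eq_of_ne hj _

theorem tnv_ne_zero {x : τ → Fin m → F} (h : ∀ j, x j ≠ 0) : tnv x ≠ 0 := by
  choose p hp using fun j => Function.ne_iff.1 (h j)
  intro e
  exact Finset.prod_ne_zero_iff.2 (fun j _ => hp j) (congrFun e p)

theorem embM_mulVec_tnv (i : τ) (b : Matrix (Fin m) (Fin m) F) (x : τ → Fin m → F) :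
    embM i b *ᵥ tnv x = tnv (Function.update x i (b *ᵥ x i)) := by
  rw [embM, pureM_mulVec_tnv]
  refine congrArg tnv (funext fun j => ?_)
  by_cases h : j = i
  · subst h; rw [Function.update_self, Function.update_self]
  · rw [Function.update_of_ne h, Function.update_of_ne h, Pi.one_apply, Matrix.one_mulVec]

/-- The setting. -/
structure Hyp (J : Matrix (Fin m) (Fin m) F) (Q : QuadraticForm F (Ix τ m → F))
    (M : Subgroup (GL (Ix τ m) F)) : Prop where
  hJ : AForm J
  two_le : 2 ≤ m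
  card_two : 2 ≤ Fintype.card τ
  dim : 13 ≤ Fintype.card (Ix τ m)
  polar : ∀ x y, QuadraticMap.polar ⇑Q x y = x ⬝ᵥ JJ J τ *ᵥ y
  pure : ∀ x : τ → Fin m → F, Q (tnv x) = 0
  le : M ≤ Cfsg.Geo.omegaGL ⇑Q
  mono : ∀ g : GL (Ix τ m) F, g ∈ Cfsg.Geo.omegaGL ⇑Q → Mono g.1 → g ∈ M

namespace Hyp

variable {J : Matrix (Fin m) (Fin m) F} {Q : QuadraticForm F (Ix τ m → F)}
  {M : Subgroup (GL (Ix τ m) F)} (H : Hyp J Q M)
include H

theorem neZero : NeZero m := ⟨by have := H.two_le; omega⟩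

theorem polar_tnv (x y : τ → Fin m → F) :
    QuadraticMap.polar ⇑Q (tnv x) (tnv y) = ∏ j, x j ⬝ᵥ J *ᵥ y j := by
  rw [H.polar, pureM_mulVec_tnv, tnv_dot]

theorem swap (a b : Fin m → F) : a ⬝ᵥ J *ᵥ b = -(b ⬝ᵥ J *ᵥ a) := by
  rw [dotProduct_comm, H.hJ.swap, dotProduct_comm]

theorem self (a : Fin m → F) : a ⬝ᵥ J *ᵥ a = 0 := H.hJ.alt a

theorem nondeg : Nondeg Q := by
  haveI := H.neZero
  intro x hx
  have hd : IsUnit (JJ J τ).det := Ne.isUnit (det_JJ H.hJ)
  have h0 : x ᵥ* JJ J τ = 0 := by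
    ext p
    have := hx (Pi.single p 1)
    rw [H.polar, Matrix.dotProduct_mulVec, dotProduct_single, mul_one] at this
    exact this
  have := congrArg (· ᵥ* (JJ J τ)⁻¹) h0
  simpa [Matrix.vecMul_vecMul, Matrix.mul_nonsing_inv _ hd] using this

theorem five_le_dim : 5 ≤ Module.finrank F (Ix τ m → F) := by
  rw [Module.finrank_pi]
  exact le_trans (by norm_num) H.dim

theorem iso_mem {g : GL (Ix τ m) F} (hg : g ∈ M) : g ∈ Cfsg.isometryGroup F ⇑Q :=
  Subgroup.map_subtype_le _ (H.le hg)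

theorem gram {g : GL (Ix τ m) F} (hg : g ∈ Cfsg.isometryGroup F ⇑Q) : Sp (JJ J τ) g.1 := by
  refine TensorSymp.matrix_ext_dot fun x y => ?_
  have e := CfsgLib.Orth.ap_b (⟨g, hg⟩ : Grp Q) x y
  rw [H.polar, H.polar] at e
  rw [← e, ← Matrix.mulVec_mulVec, ← Matrix.mulVec_mulVec, Matrix.dotProduct_mulVec x g.1ᵀ, Matrix.vecMul_transpose]
  rfl

/-- An isometry of the polar form carrying the basis to pure vectors is an isometry. -/
theorem iso_of_pure {X : Matrix (Ix τ m) (Ix τ m) F} (hg : Sp (JJ J τ) X)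
    (hp : ∀ p, Q (X *ᵥ Pi.single p (1 : F)) = 0) (z : Ix τ m → F) : Q (X *ᵥ z) = Q z := by
  classical
  have hadd : ∀ x y, QuadraticMap.polar ⇑Q (X *ᵥ x) (X *ᵥ y) = QuadraticMap.polar ⇑Q x y := by
    intro x y
    rw [H.polar, H.polar]
    conv_rhs => rw [← show Xᵀ * JJ J τ * X = JJ J τ from hg]
    rw [← Matrix.mulVec_mulVec, ← Matrix.mulVec_mulVec, Matrix.dotProduct_mulVec x Xᵀ, Matrix.vecMul_transpose]
  suffices h : ∀ s : Finset (Ix τ m), Q (X *ᵥ ∑ p ∈ s, z p • Pi.single p (1 : F)) =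
      Q (∑ p ∈ s, z p • Pi.single p (1 : F)) by
    have := h Finset.univ
    rwa [← pi_eq_sum_univ' z] at this
  intro s
  induction s using Finset.induction_on with
  | empty => simp
  | insert a s ha ih =>
    rw [Finset.sum_insert ha, Matrix.mulVec_add, q_add, q_add, ih, hadd, Matrix.mulVec_smul, q_smul, q_smul, hp,
      single_eq_tnv, H.pure]

theorem iso_pureM {g : τ → Matrix (Fin m) (Fin m) F} (hg : ∀ j, Sp J (g j)) (z : Ix τ m → F) :
    Q (pureM g *ᵥ z) = Q z :=
  H.iso_of_pure (sp_pureM hg) (fun p => by rw [single_eq_tnv, pureM_mulVec_tnv, H.pure]) z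

theorem iso_permM (σ : Equiv.Perm τ) (z : Ix τ m → F) : Q (permM F m σ *ᵥ z) = Q z := by
  refine H.iso_of_pure (sp_permM σ) (fun p => ?_) z
  have e : permM F m σ *ᵥ Pi.single p (1 : F) = Pi.single (p ∘ (σ⁻¹ : Equiv.Perm τ)) (1 : F) := by
    funext q
    rw [Matrix.mulVec_single_one]
    show permM F m σ q p = _
    rw [permM, Matrix.of_apply, Pi.single_apply]
    refine if_congr ⟨?_, ?_⟩ rfl rfl <;> rintro rfl <;> funext j <;> simp
  rw [e, single_eq_tnv, H.pure]

theorem omega_of_El {g : Grp Q} (hg : g ∈ El Q) : (g : GL (Ix τ m) F) ∈ Cfsg.Geo.omegaGL ⇑Q :=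
  ⟨g, by rw [CfsgLib.Orth.omega_eq_El H.nondeg H.five_le_dim]; exact hg, rfl⟩

theorem inM_embM_tv (i : τ) (u : Fin m → F) (c : F) : InM M (embM i (tv J u c)) := by
  classical
  by_cases hu : u = 0
  · exact ⟨1, M.one_mem, by simp [hu, tv, embM_one]⟩
  obtain ⟨θ, hθ⟩ := TensorMax.exists_dual_one hu
  obtain ⟨z, hz⟩ : ∃ z, z = J⁻¹ *ᵥ θ := ⟨_, rfl⟩
  have hz' : u ⬝ᵥ J *ᵥ z = 1 := by
    rw [hz, Matrix.mulVec_mulVec, Matrix.mul_nonsing_inv J H.hJ.isUnit_det, Matrix.one_mulVec, dotProduct_comm]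
    exact hθ
  have hsp : Sp J (tv J u c) := H.hJ.sp_tv u c
  obtain ⟨g, hg⟩ := CfsgLib.Orth.exists_iso H.nondeg (embM i (tv J u c)).mulVecLin (fun x => by
    rw [Matrix.mulVecLin_apply, embM]
    refine H.iso_pureM (fun j => ?_) x
    by_cases h : j = i
    · subst h; rw [Function.update_self]; exact hsp
    · rw [Function.update_of_ne h]; exact H.hJ.sp_one)
  have hval : ((g : GL (Ix τ m) F)).1 = embM i (tv J u c) := Matrix.ext_iff_mulVec.2 hg
  refine ⟨_, H.mono _ (H.omega_of_El ?_) (hval ▸ mono_pure _), hval⟩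
  obtain ⟨pe, hpe⟩ : ∃ pe : Ix (Rest i) m → τ → Fin m → F, ∀ p j, pe p j =
      if h : j = i then u else Pi.single (p ⟨j, h⟩) (1 : F) := ⟨_, fun _ _ => rfl⟩
  obtain ⟨pf, hpf⟩ : ∃ pf : Ix (Rest i) m → τ → Fin m → F, ∀ p j, pf p j =
      if h : j = i then z else J⁻¹ *ᵥ Pi.single (p ⟨j, h⟩) (1 : F) := ⟨_, fun _ _ => rfl⟩
  refine CfsgLib.Orth.mem_El_of_flag H.nondeg (fun p => tnv (pe p)) (fun p => tnv (pf p)) (fun p => H.pure _)
    (fun p q => ?_) (fun p q => ?_) g (fun p => ?_) (fun y _ => ?_)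
  · rw [H.polar_tnv]
    refine Finset.prod_eq_zero (Finset.mem_univ i) ?_
    rw [hpe, hpe, dif_pos rfl, dif_pos rfl, H.self]
  · rw [H.polar_tnv]
    by_cases hpq : p = q
    · subst hpq
      rw [if_pos rfl]
      refine Finset.prod_eq_one fun j _ => ?_
      rw [hpe, hpf]
      by_cases h : j = i
      · rw [dif_pos h, dif_pos h, hz']
      · rw [dif_neg h, dif_neg h, Matrix.mulVec_mulVec, Matrix.mul_nonsing_inv J H.hJ.isUnit_det, Matrix.one_mulVec,
          single_dotProduct, one_mul, Pi.single_eq_same]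
    · rw [if_neg hpq]
      obtain ⟨⟨j, hj⟩, hjne⟩ := Function.ne_iff.1 hpq
      refine Finset.prod_eq_zero (Finset.mem_univ j) ?_
      rw [hpe, hpf, dif_neg hj, dif_neg hj, Matrix.mulVec_mulVec, Matrix.mul_nonsing_inv J H.hJ.isUnit_det,
        Matrix.one_mulVec, single_dotProduct, one_mul, Pi.single_eq_of_ne hjne]
  · rw [hg, Matrix.mulVecLin_apply, embM_mulVec_tnv, hpe p i, dif_pos rfl, H.hJ.tv_apply, H.hJ.self, mul_zero,
      zero_smul, add_zero]
    exact congrArg tnv (Function.update_eq_iff.2 ⟨by rw [hpe, dif_pos rfl], fun _ _ => rfl⟩)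
  · rw [hg, Matrix.mulVecLin_apply, TensorWreathS.tv_eq, embM_add, embM_one, embM_smul, Matrix.add_mulVec,
      Matrix.one_mulVec, add_sub_cancel_left, Matrix.smul_mulVec]
    refine Submodule.smul_mem _ _ ?_
    rw [pi_eq_sum_univ' y, Matrix.mulVec_sum]
    refine Submodule.sum_mem _ fun p _ => ?_
    rw [Matrix.mulVec_smul]
    refine Submodule.smul_mem _ _ ?_
    rw [single_eq_tnv, embM_mulVec_tnv, TensorWreathS.nu_mulVec, tnv_update_smul]
    refine Submodule.smul_mem _ _ (Submodule.subset_span ⟨fun j => p j.1, congrArg tnv (funext fun j => ?_)⟩)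
    rw [hpe]
    by_cases h : j = i
    · subst h; rw [dif_pos rfl, Function.update_self]
    · rw [dif_neg h, Function.update_of_ne h]

/-- The isometries of one factor. -/
theorem inM_embM (i : τ) {T : Matrix (Fin m) (Fin m) F} (hT : Sp J T) : InM M (embM i T) := by
  refine sp_induction H.hJ (fun T => InM M (embM i T)) ?_ (fun S T hS hT => ?_) (fun u c => H.inM_embM_tv i u c) hT
  · show InM M (embM i 1)
    rw [embM_one]
    exact inM_one
  · show InM M (embM i (S * T))
    rw [← embM_mul]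
    exact hS.mul hT

theorem exists_perm (σ : Equiv.Perm τ) : ∃ g : Grp Q, ((g : GL (Ix τ m) F)).1 = permM F m σ := by
  obtain ⟨g, hg⟩ := CfsgLib.Orth.exists_iso H.nondeg (permM F m σ).mulVecLin (fun x => H.iso_permM σ x)
  exact ⟨g, Matrix.ext_iff_mulVec.2 hg⟩

theorem inM_perm_sq (σ : Equiv.Perm τ) : InM M (permM F m (σ * σ)) := by
  obtain ⟨g, hg⟩ := H.exists_perm σ
  have hgg : (((g * g : Grp Q) : GL (Ix τ m) F)).1 = permM F m (σ * σ) := by
    rw [Subgroup.coe_mul, Units.val_mul, hg, permM_mul]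
  exact ⟨_, H.mono _ ⟨g * g, CfsgLib.Orth.sq_mem_omega H.nondeg H.five_le_dim g, rfl⟩ (hgg ▸ mono_perm _), hgg⟩

/-- The even permutations. -/
theorem inM_perm_even (σ : Equiv.Perm τ) (hσ : Equiv.Perm.sign σ = 1) : InM M (permM F m σ) := by
  have hmem : σ ∈ alternatingGroup τ := hσ
  rw [← Equiv.Perm.closure_three_cycles_eq_alternating] at hmem
  clear hσ
  induction hmem using Subgroup.closure_induction with
  | mem g hg =>
    have h3 : g ^ 3 = 1 := by rw [← hg.orderOf]; exact pow_orderOf_eq_one g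
    have e : (g * g) * (g * g) = g := by
      rw [show (g * g) * (g * g) = g ^ 3 * g by simp [pow_succ, mul_assoc], h3, one_mul]
    rw [← e]
    exact H.inM_perm_sq _
  | one => rw [permM_one]; exact inM_one
  | mul a b _ _ ha hb => rw [← permM_mul]; exact ha.mul hb
  | inv a _ ha => exact ha.of_mul_eq_one (permM_mul_inv a)

end Hyp

end CfsgLib.Classical.TensorWreathO
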