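import Cfsg.Agent.Lib.Classical.TensorWreathO.Turn
import Cfsg.Agent.Lib.Classical.TensorWreathT.Mono

set_option autoImplicit false
set_option linter.unusedSectionVars false

/-!
The dichotomy in characteristic two: either the group is monomial, or it has all the planes of pure vectors.
-/

namespace CfsgLib.Classical.TensorWreathO

open Matrix CfsgLib.Classical.TensorWreath CfsgLib.Orth CfsgLib.Orth.Overfield
open CfsgLib.Classical.TensorSymp (Sp AForm tv adj Np Zm D)
open CfsgLib.Classical.TensorWreathS (JJ nu tnv pureM_mulVec_tnv inM_two inM_of_two)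
open CfsgLib.Classical.TensorWreathU (back_add back_one)
open CfsgLib.Classical.TensorWreathT (neg_two sub_two)
open scoped MatrixGroups Kronecker

variable {F : Type*} [Field F] [Finite F] [DecidableEq F] {τ : Type} [Fintype τ] [DecidableEq τ] {m : ℕ}
variable {J : Matrix (Fin m) (Fin m) F} {Q : QuadraticForm F (Ix τ m → F)} {M : Subgroup (GL (Ix τ m) F)}

theorem adj_pureM (hJ : AForm J) (g : τ → Matrix (Fin m) (Fin m) F) :
    adj (JJ J τ) (pureM g) = pureM fun j => adj J (g j) := by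
  have e : (JJ J τ)⁻¹ = pureM fun _ : τ => J⁻¹ := Matrix.inv_eq_right_inv (by
    rw [pureM_mul, ← pureM_one]
    exact congrArg pureM (funext fun _ => Matrix.mul_nonsing_inv J hJ.isUnit_det))
  rw [adj, e, TensorWreathS.transpose_pureM, pureM_mul, pureM_mul]
  rfl

theorem adj_embM (hJ : AForm J) (l : τ) (b : Matrix (Fin m) (Fin m) F) :
    adj (JJ J τ) (embM l b) = embM l (adj J b) := by
  rw [embM, adj_pureM hJ, embM]
  refine congrArg pureM (funext fun j => ?_)
  by_cases h : j = l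
  · subst h; rw [Function.update_self, Function.update_self]
  · rw [Function.update_of_ne h, Function.update_of_ne h, Pi.one_apply, hJ.adj_one]

theorem single_eq_pureM (p q : Ix τ m) :
    Matrix.single p q (1 : F) = pureM fun j => Matrix.single (p j) (q j) (1 : F) := by
  ext a b
  rw [pureM_apply, Matrix.single_apply]
  simp only [Matrix.single_apply, Fintype.prod_boole]
  exact if_congr ⟨fun h j => ⟨congrFun h.1 j, congrFun h.2 j⟩,
    fun h => ⟨funext fun j => (h j).1, funext fun j => (h j).2⟩⟩ rfl rfl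

/-- All the levels of one factor at the other, spelt out. -/
def Two (J : Matrix (Fin m) (Fin m) F) (M : Subgroup (GL (Ix τ m) F)) (i l : τ) : Prop :=
  ∀ w ψ : Fin m → F, w ≠ 0 → (∀ c : F, ψ ≠ c • w) → (J *ᵥ w) ⬝ᵥ ψ = 0 → ∀ b,
    InM M (1 + embM l b * embM i (Matrix.vecMulVec w (J *ᵥ ψ)) +
      embM l (adj J b) * embM i (Matrix.vecMulVec ψ (J *ᵥ w)))

namespace Hyp

variable (H : Hyp J Q M)
include H

theorem toT (h2 : (2 : F) = 0) (h6 : 6 ≤ m) : TensorWreathT.Hyp J M where
  two := h2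
  hJ := H.hJ
  six := h6
  le g hg := H.gram (H.iso_mem hg)
  emb i _T hT := H.inM_embM i hT

theorem nontriv : Nontrivial τ := Fintype.one_lt_card_iff_nontrivial.1 (by have := H.card_two; omega)

theorem two_iff_d {i : τ} (l : Rest i) :
    Two J M i l.1 ↔ ∀ b, D (JJ J (Rest i)) J (M.map (TensorWreathU.two i).toMonoidHom) (embM l b) := by
  have e : ∀ b c : Matrix (Fin m) (Fin m) F, ins i (embM l b) c = embM l.1 b * embM i c := fun b c => by
    rw [← ins_embM, embM_eq_ins i c, ins_mul, mul_one, one_mul]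
  constructor
  · intro h b w ψ hw hψ ho
    refine inM_two i ?_ (h w ψ hw hψ ho b)
    rw [back_add, back_one, TensorWreathT.back_np, adj_embM H.hJ, e, e, add_assoc]
  · intro h w ψ hw hψ ho b
    have h1 := inM_of_two i (h b w ψ hw hψ ho)
    rwa [back_add, back_one, TensorWreathT.back_np, adj_embM H.hJ, e, e, ← add_assoc] at h1

/-- Not all scalar: one factor is full at another. -/
theorem exists_two (h2 : (2 : F) = 0) (h6 : 6 ≤ m) (hS : ¬ TensorWreathS.SmallAll J M) :
    ∃ i l, l ≠ i ∧ Two J M i l := by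
  haveI := H.neZero
  haveI := H.nontriv
  have T := H.toT h2 h6
  simp only [TensorWreathS.SmallAll, not_forall, exists_prop] at hS
  obtain ⟨i, u, hu, Y, hY, hYM, hns⟩ := hS
  rw [hY.eq_ins, TensorWreathS.embM_nu_mul] at hYM
  have hD : D (JJ J (Rest i)) J (M.map (TensorWreathU.two i).toMonoidHom) (restM i Y) := by
    refine (T.pair i).d_of_zm hu (inM_two i ?_ hYM)
    rw [back_add, back_one, TensorWreathT.back_zm]
  obtain ⟨l, hl⟩ := TensorWreathT.exists_full H.hJ h2 h6 _ (Rest i) rfl _ (T.d_alg i) _ hD fun c hc => hns ⟨c, by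
    rw [hY.eq_ins, hc, ins_smul_left, ins_one_one]⟩
  exact ⟨i, l.1, l.2, (H.two_iff_d l).2 hl⟩

theorem two_symm (h2 : (2 : F) = 0) (h6 : 6 ≤ m) {i l : τ} (hil : l ≠ i) (h : Two J M i l) : Two J M l i := by
  haveI := H.neZero
  haveI := H.nontriv
  have T := H.toT h2 h6
  have hJ := H.hJ
  refine (H.two_iff_d (i := l) ⟨i, Ne.symm hil⟩).2 ((T.d_alg l).full_of_nu hJ ⟨i, Ne.symm hil⟩ fun w => ?_)
  have hadj : ∀ a c : Fin m → F, adj J (Matrix.vecMulVec a (J *ᵥ c)) = Matrix.vecMulVec c (J *ᵥ a) := fun a c => by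
    rw [hJ.adj_vecMulVec, neg_two h2]
  have key : ∀ w ψ : Fin m → F, w ≠ 0 → (∀ c : F, ψ ≠ c • w) → (J *ᵥ w) ⬝ᵥ ψ = 0 →
      D (JJ J (Rest l)) J (M.map (TensorWreathU.two l).toMonoidHom)
        (embM ⟨i, Ne.symm hil⟩ (Matrix.vecMulVec w (J *ᵥ ψ))) := by
    intro w ψ hw hψ ho a c ha hc hac
    refine inM_two l ?_ (h w ψ hw hψ ho (Matrix.vecMulVec a (J *ᵥ c)))
    rw [back_add, back_one, TensorWreathT.back_np, adj_embM hJ, hadj, hadj, add_assoc]
    have e : ∀ b d : Matrix (Fin m) (Fin m) F, ins l (embM ⟨i, Ne.symm hil⟩ b) d = embM l d * embM i b := fun b d => by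
      rw [← embM_comm (Ne.symm hil), ← ins_embM l ⟨i, Ne.symm hil⟩, embM_eq_ins l d, ins_mul, mul_one, one_mul]
    rw [e, e]
  by_cases hw : w = 0
  · rw [hw, nu, Matrix.zero_vecMulVec, embM_zero]
    exact (T.d_alg l).zero
  obtain ⟨ψ, hψ, ho⟩ := TensorWreathT.exists_indep_orth hJ (by rw [Fintype.card_fin]; omega) w
  have h1 := key w ψ hw hψ ho
  have h3 := key w (ψ + w) hw (fun d e => hψ (d - 1) (by rw [sub_smul, one_smul, ← e, add_sub_cancel_right]))
    (by rw [dotProduct_add, ho, hJ.self, add_zero])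
  have := (T.d_alg l).add _ _ h3 h1
  rwa [← embM_add, Matrix.mulVec_add, Matrix.vecMulVec_add, add_right_comm, ← sub_two h2 _ (Matrix.vecMulVec w (J *ᵥ ψ)),
    sub_self, zero_add] at this

theorem two_perm (σ : Equiv.Perm τ) (hσ : Equiv.Perm.sign σ = 1) {i l : τ} (h : Two J M i l) :
    Two J M (σ i) (σ l) := by
  intro w ψ hw hψ ho b
  have hc : ∀ j b j' b', permM F m σ * (embM j b * embM j' b') = embM (σ j) b * embM (σ j') b' * permM F m σ :=
    fun j b j' b' => by rw [← mul_assoc, permM_conj_embM, mul_assoc, permM_conj_embM, ← mul_assoc]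
  have := ((H.inM_perm_even σ hσ).mul (h w ψ hw hψ ho b)).mul
    (H.inM_perm_even σ⁻¹ (by rw [map_inv, hσ, inv_one]))
  rwa [mul_add, mul_add, mul_one, hc, hc, add_mul, add_mul, permM_mul_inv, mul_assoc, mul_assoc _ _ (permM F m σ⁻¹),
    permM_mul_inv, mul_one, mul_one] at this

theorem two_all (h2 : (2 : F) = 0) (h6 : 6 ≤ m) {i l : τ} (hli : l ≠ i) (h : Two J M i l) (i' l' : τ)
    (hne : l' ≠ i') : Two J M i' l' := by
  obtain ⟨σ, hσ⟩ : ∃ σ, σ = Equiv.swap (Equiv.swap i i' l) l' * Equiv.swap i i' := ⟨_, rfl⟩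
  have hl : σ l = l' := by rw [hσ, Equiv.Perm.mul_apply, Equiv.swap_apply_left]
  have hi : σ i = i' := by
    rw [hσ, Equiv.Perm.mul_apply, Equiv.swap_apply_left, Equiv.swap_apply_of_ne_of_ne ?_ (Ne.symm hne)]
    intro e
    exact hli ((Equiv.swap i i').injective (e.symm.trans (Equiv.swap_apply_left i i').symm))
  rcases Int.units_eq_one_or (Equiv.Perm.sign σ) with hs | hs
  · have := H.two_perm σ hs h
    rwa [hi, hl] at this
  · have := H.two_perm (σ * Equiv.swap i l) (by rw [map_mul, hs, Equiv.Perm.sign_swap (Ne.symm hli)]; decide) h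
    rw [Equiv.Perm.mul_apply, Equiv.Perm.mul_apply, Equiv.swap_apply_left, Equiv.swap_apply_right, hi, hl] at this
    exact H.two_symm h2 h6 (Ne.symm hne) this

theorem d_full (h2 : (2 : F) = 0) (h6 : 6 ≤ m) (hS : ¬ TensorWreathS.SmallAll J M) (i : τ)
    (E : Matrix (Ix (Rest i) m) (Ix (Rest i) m) F) :
    D (JJ J (Rest i)) J (M.map (TensorWreathU.two i).toMonoidHom) E := by
  haveI := H.neZero
  haveI := H.nontriv
  have T := H.toT h2 h6
  obtain ⟨i₀, l₀, hne, h⟩ := H.exists_two h2 h6 hS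
  have hP := T.d_alg i
  have hpure : ∀ g, D (JJ J (Rest i)) J (M.map (TensorWreathU.two i).toMonoidHom) (pureM g) := by
    intro g
    suffices hs : ∀ s : Finset (Rest i),
        D (JJ J (Rest i)) J (M.map (TensorWreathU.two i).toMonoidHom) (pureM (pick s g)) by
      convert hs Finset.univ using 2
      funext j; simp [pick]
    intro s
    induction s using Finset.induction with
    | empty => rw [pick_empty]; exact hP.one
    | insert a s ha IH =>
      rw [pick_insert ha]
      exact hP.mul _ _ IH ((H.two_iff_d a).1 (H.two_all h2 h6 hne h i a.1 a.2) _)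
  rw [Matrix.matrix_eq_sum_single E]
  refine hP.sum _ _ fun p _ => hP.sum _ _ fun q _ => ?_
  rw [show Matrix.single p q (E p q) = E p q • Matrix.single p q (1 : F) by
    rw [Matrix.smul_single, smul_eq_mul, mul_one], single_eq_pureM]
  exact hP.smul _ _ (hpure _)

/-- A plane with an orthogonal pair at one factor. -/
theorem gd_indep (h2 : (2 : F) = 0) (h6 : 6 ≤ m) (hS : ¬ TensorWreathS.SmallAll J M) {x y : τ → Fin m → F} {i : τ}
    (hx : x i ≠ 0) (hy : ∀ c : F, y i ≠ c • x i) (ho : (J *ᵥ x i) ⬝ᵥ y i = 0) : Gd Q M x y := by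
  haveI := H.neZero
  haveI := H.nontriv
  have T := H.toT h2 h6
  refine ⟨?_, fun a g hg => ?_⟩
  · rw [H.polar_tnv]
    exact Finset.prod_eq_zero (Finset.mem_univ i) (by
      rw [H.swap, dotProduct_comm, ho, neg_zero])
  obtain ⟨C, hC⟩ : ∃ C : Matrix (Ix (Rest i) m) (Ix (Rest i) m) F,
      C = pureM fun j : Rest i => Matrix.vecMulVec (x j.1) (J *ᵥ y j.1) := ⟨_, rfl⟩
  have hA : ∀ x y : τ → Fin m → F, Matrix.vecMulVec (tnv x) (JJ J τ *ᵥ tnv y) =
      ins i (pureM fun j : Rest i => Matrix.vecMulVec (x j.1) (J *ᵥ y j.1))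
        (Matrix.vecMulVec (x i) (J *ᵥ y i)) := fun x y => by
    rw [pureM_mulVec_tnv, ← pureM_vmv, ins_pureM]
    refine congrArg pureM (funext fun j => ?_)
    by_cases h : j = i
    · subst h; rw [Function.update_self]
    · rw [Function.update_of_ne h, extend, dif_neg h]
  have hadj : adj (JJ J (Rest i)) (a • C) = a • pureM fun j : Rest i => Matrix.vecMulVec (y j.1) (J *ᵥ x j.1) := by
    rw [(T.pair i).sA.adj_smul, hC, adj_pureM H.hJ]
    simp only [H.hJ.adj_vecMulVec, neg_two h2]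
  have hmat : ((g : GL (Ix τ m) F)).1 = 1 + a • (Matrix.vecMulVec (tnv y) (JJ J τ *ᵥ tnv x) -
      Matrix.vecMulVec (tnv x) (JJ J τ *ᵥ tnv y)) := by
    refine Matrix.ext_iff_mulVec.2 fun z => ?_
    rw [Matrix.add_mulVec, Matrix.one_mulVec, Matrix.smul_mulVec, Matrix.sub_mulVec, Matrix.vecMulVec_mulVec,
      Matrix.vecMulVec_mulVec, op_smul_eq_smul, op_smul_eq_smul]
    have h := hg.2.2 z
    rw [q_smul, H.pure, mul_zero, zero_mul, zero_smul, sub_zero, b_smul_right, H.polar, H.polar,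
      dotProduct_comm z, dotProduct_comm z] at h
    rw [show ((g : GL (Ix τ m) F)).1 *ᵥ z = ap g z from rfl, h]
    module
  obtain ⟨k, hk, hk'⟩ := inM_of_two i (H.d_full h2 h6 hS i (a • C) (x i) (y i) hx hy ho)
  rw [back_add, back_one, TensorWreathT.back_np, hadj, hC, ins_smul_left, ins_smul_left, ← hA, ← hA,
    ← smul_add, add_comm (Matrix.vecMulVec (tnv x) _), ← sub_two h2 (Matrix.vecMulVec (tnv y) _)] at hk'
  have e : (g : GL (Ix τ m) F) = k := Units.ext (hmat.trans hk'.symm)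
  show (g : GL (Ix τ m) F) ∈ M
  rwa [e]

theorem rp_even (h2 : (2 : F) = 0) (h6 : 6 ≤ m) (hS : ¬ TensorWreathS.SmallAll J M) : RP Q M := by
  haveI := H.nontriv
  intro c x z v
  obtain ⟨i, hic⟩ := exists_ne c
  by_cases hxi : x i = 0
  · exact H.gd_zero (j := i) (by rw [Function.update_of_ne hic, hxi])
  obtain ⟨X, hX⟩ : ∃ X, X = Function.update x c z := ⟨_, rfl⟩
  obtain ⟨Y, hY⟩ : ∃ Y, Y = Function.update x c v := ⟨_, rfl⟩
  rw [← hX, ← hY]
  have eX : X i = x i := by rw [hX, Function.update_of_ne hic]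
  have eY : Y i = x i := by rw [hY, Function.update_of_ne hic]
  obtain ⟨ψ, hψ, ho⟩ := TensorWreathT.exists_indep_orth H.hJ (by rw [Fintype.card_fin]; omega) (x i)
  have g1 : Gd Q M X (Function.update Y i (x i + ψ)) := H.gd_indep h2 h6 hS (i := i) (by rwa [eX])
    (fun d e => hψ (d - 1) (by
      rw [Function.update_self, eX] at e
      rw [sub_smul, one_smul, ← e, add_sub_cancel_left]))
    (by rw [Function.update_self, eX, dotProduct_add, H.hJ.self, ho, add_zero])
  have g2 : Gd Q M X (Function.update Y i ψ) := H.gd_indep h2 h6 hS (i := i) (by rwa [eX])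
    (by rw [Function.update_self, eX]; exact hψ) (by rw [Function.update_self, eX]; exact ho)
  have g := goodAt_sub H.nondeg (H.pure X) g1 g2
  rw [← tnv_update_sub, add_sub_cancel_right, ← eY, Function.update_eq_self] at g
  exact g

/-- Characteristic two. -/
theorem dichotomy_even (h2 : (2 : F) = 0) (h6 : 6 ≤ m) :
    (∀ g ∈ M, Mono g.1) ∨ M = Cfsg.Geo.omegaGL ⇑Q := by
  by_cases hS : TensorWreathS.SmallAll J M
  · haveI : Nonempty τ := Fintype.card_pos_iff.1 (by have := H.card_two; omega)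
    exact Or.inl fun g hg => TensorWreathT.allMono _ τ rfl M (H.toT h2 h6) hS g hg
  exact Or.inr (le_antisymm H.le (H.omega_le (H.rp_even h2 h6 hS)))

end Hyp

end CfsgLib.Classical.TensorWreathO
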