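import Cfsg.Agent.Lib.Classical.TensorWreathO.Even
import Cfsg.Agent.Lib.Classical.TensorWreath.Main
import Cfsg.Agent.Lib.Classical.TensorSymp.Main
import Cfsg.Agent.Lib.Classical.OrthSubfield

set_option autoImplicit false
set_option linter.unusedSectionVars false

/-!
The stabiliser in `Ω⁺` of a decomposition into equal symplectic tensor factors is maximal.
-/

namespace CfsgLib.Classical.TensorWreathO

open Matrix CfsgLib.Classical.TensorWreath
open CfsgLib.Classical.TensorSymp (AForm)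
open CfsgLib.Classical.TensorWreathS (JJ tnv tnv_dot pureM_mulVec_tnv)
open CfsgLib.Orth (Grp ap exists_siegel q_smul)
open scoped MatrixGroups Kronecker

variable {F : Type*} [Field F] [Finite F]

theorem ne_tnv_add {τ : Type} [Fintype τ] [DecidableEq τ] {m : ℕ} {i k : τ} (hik : i ≠ k) {e0 a b : Fin m → F}
    (he : e0 ≠ 0) (ha : ∀ c : F, a ≠ c • e0) (hb : ∀ c : F, b ≠ c • e0) {d : F} (hd : d ≠ 0) (w : τ → Fin m → F) :
    tnv (Function.update (Function.update (fun _ => e0) k b) i a) + d • tnv (fun _ => e0) ≠ tnv w := by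
  intro h
  obtain ⟨A, a1, a2⟩ := TensorMax.exists_dual_pair he ha 0 1
  obtain ⟨A', a1', a2'⟩ := TensorMax.exists_dual_pair he ha 1 0
  obtain ⟨B, b1, b2⟩ := TensorMax.exists_dual_pair he hb 0 1
  obtain ⟨B', b1', b2'⟩ := TensorMax.exists_dual_pair he hb 1 0
  have key : ∀ X Y : Fin m → F, (X ⬝ᵥ a) * (Y ⬝ᵥ b) + d * ((X ⬝ᵥ e0) * (Y ⬝ᵥ e0)) =
      (X ⬝ᵥ w i) * (Y ⬝ᵥ w k) * ∏ j ∈ (Finset.univ.erase i).erase k, A' ⬝ᵥ w j := by
    intro X Y
    have split : ∀ g : τ → F, ∏ j, g j = g i * g k * ∏ j ∈ (Finset.univ.erase i).erase k, g j := fun g => by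
      rw [mul_assoc, Finset.mul_prod_erase _ g (Finset.mem_erase.2 ⟨Ne.symm hik, Finset.mem_univ k⟩),
        Finset.mul_prod_erase _ g (Finset.mem_univ i)]
    have := congrArg (tnv (Function.update (Function.update (fun _ => A') k Y) i X) ⬝ᵥ ·) h
    simp only [dotProduct_add, dotProduct_smul, tnv_dot, smul_eq_mul, split] at this
    rw [Function.update_self, Function.update_of_ne (Ne.symm hik), Function.update_of_ne (Ne.symm hik),
      Function.update_self, Function.update_self, Function.update_self] at this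
    have rest : ∀ j ∈ (Finset.univ.erase i).erase k, Function.update (Function.update (fun _ => A') k Y) i X j = A' ∧
        Function.update (Function.update (fun _ : τ => e0) k b) i a j = e0 := fun j hj => by
      simp only [Finset.mem_erase] at hj
      simp [Function.update_of_ne hj.1, Function.update_of_ne hj.2.1]
    have p1 : ∏ j ∈ (Finset.univ.erase i).erase k, Function.update (Function.update (fun _ => A') k Y) i X j ⬝ᵥ
        Function.update (Function.update (fun _ : τ => e0) k b) i a j = 1 :=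
      Finset.prod_eq_one fun j hj => by rw [(rest j hj).1, (rest j hj).2, a1']
    have p2 : ∏ j ∈ (Finset.univ.erase i).erase k,
        Function.update (Function.update (fun _ => A') k Y) i X j ⬝ᵥ e0 = 1 :=
      Finset.prod_eq_one fun j hj => by rw [(rest j hj).1, a1']
    have p3 : ∏ j ∈ (Finset.univ.erase i).erase k, Function.update (Function.update (fun _ => A') k Y) i X j ⬝ᵥ w j =
        ∏ j ∈ (Finset.univ.erase i).erase k, A' ⬝ᵥ w j :=
      Finset.prod_congr rfl fun j hj => by rw [(rest j hj).1]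
    rw [p1, p2, p3] at this
    simpa using this
  have h1 := key A B
  have h2 := key A' B'
  have h3 := key A B'
  simp only [a1, a2, a1', a2', b1, b2, b1', b2', mul_one, mul_zero, one_mul, zero_mul, add_zero, zero_add] at h1 h2 h3
  rcases mul_eq_zero.1 h3.symm with h4 | h4
  · rcases mul_eq_zero.1 h4 with h5 | h5
    · rw [h5, zero_mul, zero_mul] at h1; exact one_ne_zero h1
    · rw [h5, mul_zero, zero_mul] at h2; exact hd h2
  · rw [h4, mul_zero] at h1; exact one_ne_zero h1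

namespace Hyp

variable [DecidableEq F] {τ : Type} [Fintype τ] [DecidableEq τ] {m : ℕ}
variable {J : Matrix (Fin m) (Fin m) F} {Q : QuadraticForm F (Ix τ m → F)} {M : Subgroup (GL (Ix τ m) F)}
variable (H : Hyp J Q M)
include H

/-- An element of `Ω` which is not monomial. -/
theorem exists_not_mono : ∃ g ∈ Cfsg.Geo.omegaGL ⇑Q, ¬ Mono g.1 := by
  haveI := H.neZero
  haveI := H.nontriv
  have hJ := H.hJ
  obtain ⟨e0, he0⟩ : ∃ e0 : Fin m → F, e0 ≠ 0 := ⟨Pi.single 0 1, by simp⟩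
  obtain ⟨e1, h01⟩ := hJ.exists_form_ne he0
  have h10 : (J *ᵥ e1) ⬝ᵥ e0 = -1 := by rw [hJ.swap, h01]
  have he1 : ∀ c : F, e1 ≠ c • e0 := fun c e => by
    rw [e, dotProduct_smul, hJ.self, smul_zero] at h01
    exact zero_ne_one h01
  obtain ⟨i, k, hik⟩ := exists_pair_ne τ
  obtain ⟨b, hb, hb1, j, hj, hj0⟩ : ∃ b : Fin m → F, (∀ c : F, b ≠ c • e0) ∧ (J *ᵥ e1) ⬝ᵥ b ≠ 0 ∧
      ∃ j, j ≠ i ∧ (J *ᵥ e0) ⬝ᵥ (if j = k then b else e0) = 0 := by
    by_cases hm : 3 ≤ m
    · obtain ⟨r, hr, hr'⟩ := TensorMax.exists_orth ![J *ᵥ e0, J *ᵥ e1] (by simp; omega)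
      have r0 : (J *ᵥ e0) ⬝ᵥ r = 0 := hr' 0
      have r1 : (J *ᵥ e1) ⬝ᵥ r = 0 := hr' 1
      refine ⟨e0 + r, fun c e => hr ?_, ?_, k, Ne.symm hik, ?_⟩
      · have := congrArg ((J *ᵥ e1) ⬝ᵥ ·) e
        simp only [dotProduct_add, dotProduct_smul, r1, add_zero, h10, smul_eq_mul, mul_neg, mul_one, neg_inj] at this
        rwa [← this, one_smul, add_eq_left] at e
      · rw [dotProduct_add, h10, r1, add_zero, neg_ne_zero]; exact one_ne_zero
      · rw [if_pos rfl, dotProduct_add, hJ.self, r0, add_zero]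
    · obtain rfl : m = 2 := by have := H.two_le; omega
      have four : 3 ≤ Fintype.card τ := by
        by_contra h3
        have h1 := H.dim
        rw [show Fintype.card (Ix τ 2) = 2 ^ Fintype.card τ by simp] at h1
        have : 2 ^ Fintype.card τ ≤ 2 ^ 2 := Nat.pow_le_pow_right (by norm_num) (by omega)
        omega
      obtain ⟨j, hj⟩ : ((Finset.univ.erase i).erase k).Nonempty := Finset.card_pos.1 (by
        rw [Finset.card_erase_of_mem (Finset.mem_erase.2 ⟨Ne.symm hik, Finset.mem_univ k⟩),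
          Finset.card_erase_of_mem (Finset.mem_univ _), Finset.card_univ]; omega)
      simp only [Finset.mem_erase] at hj
      refine ⟨e0 + e1, fun c e => he1 (c - 1) ?_, ?_, j, hj.2.1, ?_⟩
      · rw [sub_smul, one_smul, ← e, add_sub_cancel_left]
      · rw [dotProduct_add, h10, hJ.self, add_zero, neg_ne_zero]; exact one_ne_zero
      · rw [if_neg hj.1, hJ.self]
  obtain ⟨z, hz⟩ : ∃ z : τ → Fin m → F, z = Function.update (Function.update (fun _ => e0) k b) i e1 := ⟨_, rfl⟩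
  obtain ⟨y, hy⟩ : ∃ y : τ → Fin m → F, y = Function.update (fun _ => e1) i e0 := ⟨_, rfl⟩
  have hxy : QuadraticMap.polar ⇑Q (tnv fun _ => e0) (tnv y) = 0 := by
    rw [H.polar_tnv]
    exact Finset.prod_eq_zero (Finset.mem_univ i) (by rw [hy, Function.update_self, H.self])
  obtain ⟨g, hg⟩ := exists_siegel H.nondeg (H.pure fun _ => e0) hxy
  have hzx : QuadraticMap.polar ⇑Q (tnv z) (tnv fun _ => e0) = 0 := by
    rw [H.polar_tnv]
    refine Finset.prod_eq_zero (Finset.mem_univ j) ?_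
    rw [hz, Function.update_of_ne hj, Function.update_apply, dotProduct_comm]
    exact hj0
  have hzy : QuadraticMap.polar ⇑Q (tnv z) (tnv y) ≠ 0 := by
    rw [H.polar_tnv, Finset.prod_ne_zero_iff]
    intro l _
    rw [dotProduct_comm, hz, hy]
    by_cases hli : l = i
    · subst hli
      rw [Function.update_self, Function.update_self, h01]
      exact one_ne_zero
    rw [Function.update_of_ne hli, Function.update_of_ne hli, Function.update_apply]
    split_ifs
    · exact hb1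
    · rw [h10, neg_ne_zero]; exact one_ne_zero
  refine ⟨(g : GL (Ix τ m) F), H.omega_of_El ?_, ?_⟩
  · exact CfsgLib.Orth.siegel_mem_El hg
  rintro ⟨h, σ, hv⟩
  have e := hg.2.2 (tnv z)
  rw [hzx, zero_smul, add_zero, mul_zero, zero_smul, sub_zero] at e
  refine ne_tnv_add hik he0 he1 hb (neg_ne_zero.2 hzy) (fun l => h l *ᵥ z (σ.symm l)) ?_
  rw [← hz, neg_smul, ← sub_eq_add_neg, ← pureM_mulVec_tnv, ← permM_mulVec_pure σ z, Matrix.mulVec_mulVec]
  exact e.symm.trans (congrArg (· *ᵥ tnv z) hv)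

end Hyp

/-- Maximality. -/
theorem isMaximalIn [Fintype F] {n k t : ℕ} (hn : 13 ≤ n) (hk : 2 ≤ k) (ht : 2 ≤ t) {Q : QuadraticForm F (Fin n → F)}
    (hev : (2 : F) ≠ 0 → Even t) (hk6 : (2 : F) = 0 → 6 ≤ k)
    (hq : (2 : F) ≠ 0 → k = 2 → ∃ s : F, s ≠ 0 ∧ s * s ≠ 1)
    (e : Fin n ≃ (Fin t → Fin k)) (P : GL (Fin n) F) {f₁ : (Fin k → F) → (Fin k → F) → F}
    (hf₁ : Cfsg.Geo.IsSymplecticForm f₁)
    (hT : Cfsg.Geo.IsTensorPowerFormStructure id (QuadraticMap.polar ⇑Q) f₁ e P)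
    (hpure : ∀ xs : Fin t → (Fin k → F),
      Q ((P : Matrix (Fin n) (Fin n) F) *ᵥ ((fun a : Fin t → Fin k => ∏ i, xs i (a i)) ∘ e)) = 0) :
    Cfsg.Geo.IsMaximalIn (Cfsg.Geo.omegaGL ⇑Q)
      (Cfsg.Geo.tensorWreathSubgroup k t e P ⊓ Cfsg.Geo.omegaGL ⇑Q) := by
  classical
  haveI : NeZero k := ⟨by omega⟩
  obtain ⟨c, hc, hB⟩ := hT
  obtain ⟨J, hJd⟩ : ∃ J, J = Cfsg.Geo.gramMatrix f₁ := ⟨_, rfl⟩
  have hJ : AForm J := by
    have := TensorSymp.aform_gram hf₁ (one_ne_zero : (1 : F) ≠ 0)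
    rwa [one_smul, ← hJd] at this
  obtain ⟨φ, hφ⟩ : ∃ φ : GL (Ix (Fin t) k) F ≃* GL (Fin n) F,
      φ = (Cfsg.Geo.glReindex (F := F) e.symm).trans (MulAut.conj P) := ⟨_, rfl⟩
  obtain ⟨co, hco⟩ : ∃ co : (Ix (Fin t) k → F) →ₗ[F] (Fin n → F), ∀ z, co z = P.1 *ᵥ (z ∘ e) :=
    ⟨(Matrix.mulVecLin P.1).comp (LinearMap.funLeft F F e), fun _ => rfl⟩
  obtain ⟨Q₀, hQ₀⟩ : ∃ Q₀ : QuadraticForm F (Ix (Fin t) k → F), Q₀ = c⁻¹ • Q.comp co := ⟨_, rfl⟩
  have hQ₀v : ∀ z, Q₀ z = c⁻¹ * Q (co z) := fun z => by rw [hQ₀]; rfl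
  have hap : ∀ (g : GL (Ix (Fin t) k) F) z, (φ g).1 *ᵥ co z = co (g.1 *ᵥ z) := by
    intro g z
    rw [hφ, hco, hco]
    show (P.1 * Matrix.submatrix g.1 e e * (P⁻¹ : GL (Fin n) F).1) *ᵥ (P.1 *ᵥ _) = _
    rw [Matrix.mulVec_mulVec, Matrix.mul_assoc, Units.inv_mul, Matrix.mul_one, ← Matrix.mulVec_mulVec,
      Matrix.submatrix_mulVec_equiv, Function.comp_assoc, Equiv.self_comp_symm, Function.comp_id]
  have hsurj : ∀ v, ∃ z, co z = v := fun v => ⟨((P⁻¹ : GL (Fin n) F).1 *ᵥ v) ∘ e.symm, by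
    rw [hco, Function.comp_assoc, Equiv.symm_comp_self, Function.comp_id, Matrix.mulVec_mulVec,
      Units.mul_inv, Matrix.one_mulVec]⟩
  have hiso : (Cfsg.isometryGroup F ⇑Q₀).map φ.toMonoidHom = Cfsg.isometryGroup F ⇑Q := by
    ext x
    constructor
    · rintro ⟨g, hg, rfl⟩ u w
      obtain ⟨z, rfl⟩ := hsurj u
      show Q ((φ g).1 *ᵥ co z) = Q (co z)
      rw [hap]
      exact mul_left_cancel₀ (inv_ne_zero hc) (by rw [← hQ₀v, ← hQ₀v]; exact hg z z)
    · intro hx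
      obtain ⟨g, rfl⟩ := φ.surjective x
      refine ⟨g, fun z w => ?_, rfl⟩
      have h0 : Q ((φ g).1 *ᵥ co z) = Q (co z) := hx _ (co w)
      rw [hap] at h0
      show Q₀ (g.1 *ᵥ z) = Q₀ z
      rw [hQ₀v, hQ₀v, h0]
  have hom : (Cfsg.Geo.omegaGL ⇑Q₀).map φ.toMonoidHom = Cfsg.Geo.omegaGL ⇑Q := by
    simp only [Cfsg.Geo.omegaGL, Cfsg.Omega, Subgroup.map_subtype_commutator, Subgroup.map_commutator, hiso]
  have homg : ∀ g, φ g ∈ Cfsg.Geo.omegaGL ⇑Q ↔ g ∈ Cfsg.Geo.omegaGL ⇑Q₀ := fun g => by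
    rw [← hom]
    exact Subgroup.mem_map_iff_mem (f := φ.toMonoidHom) φ.injective
  have hpol : ∀ x y, QuadraticMap.polar ⇑Q₀ x y = x ⬝ᵥ JJ J (Fin t) *ᵥ y := by
    intro x y
    have h0 : QuadraticMap.polar ⇑Q₀ x y = c⁻¹ * QuadraticMap.polar ⇑Q (co x) (co y) := by
      simp only [QuadraticMap.polar, hQ₀v, map_add]
      ring
    rw [h0, hco, hco, hB, ← mul_assoc, inv_mul_cancel₀ hc, one_mul, dotProduct]
    refine Finset.sum_congr rfl fun a _ => ?_
    rw [Matrix.mulVec, dotProduct, Finset.mul_sum]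
    refine Finset.sum_congr rfl fun b _ => ?_
    simp only [hJd, pureM_apply, id_eq]
    ring
  have hkr : ∀ g, φ g ∈ Cfsg.Geo.tensorWreathSubgroup k t e P ↔ Mono g.1 := by
    intro g
    constructor
    · rintro ⟨_, ⟨x, hx, rfl⟩, hx'⟩
      have : x = g := φ.injective (by rw [hφ]; rw [hφ] at hx'; exact hx')
      exact this ▸ TensorWreath.mem_standard_iff.1 hx
    · intro h
      exact ⟨_, ⟨g, TensorWreath.mem_standard_iff.2 h, rfl⟩, by rw [hφ]; rfl⟩
  have hdim : 13 ≤ Fintype.card (Ix (Fin t) k) := by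
    rw [← Fintype.card_congr e, Fintype.card_fin]; exact hn
  have mk : ∀ M : Subgroup (GL (Ix (Fin t) k) F), M ≤ Cfsg.Geo.omegaGL ⇑Q₀ →
      (∀ g, g ∈ Cfsg.Geo.omegaGL ⇑Q₀ → Mono g.1 → g ∈ M) → Hyp J Q₀ M := fun M hle hm =>
    { hJ := hJ
      two_le := hk
      card_two := by simpa using ht
      dim := hdim
      polar := hpol
      pure := fun x => by
        rw [hQ₀v, hco]
        exact mul_eq_zero_of_right _ (hpure x)
      le := hle
      mono := hm }
  refine ⟨lt_of_le_of_ne inf_le_right fun hh => ?_, fun K hK hK' => ?_⟩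
  · obtain ⟨g, hg, hnm⟩ := (mk _ le_rfl fun g hg _ => hg).exists_not_mono
    refine hnm ((hkr g).1 ?_)
    have := (homg g).2 hg
    rw [← hh] at this
    exact this.1
  · have H := mk (K.comap φ.toMonoidHom) (fun g hg => (homg g).1 (hK' hg))
      fun g hg hm => hK ⟨(hkr g).2 hm, (homg g).2 hg⟩
    have hd : (∀ g ∈ K.comap φ.toMonoidHom, Mono g.1) ∨ K.comap φ.toMonoidHom = Cfsg.Geo.omegaGL ⇑Q₀ := by
      by_cases h2 : (2 : F) = 0
      · exact H.dichotomy_even h2 (hk6 h2)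
      · exact H.dichotomy_odd h2 (by simpa using hev h2) (hq h2)
    rcases hd with h | h
    · refine Or.inl (le_antisymm (fun y hy => ?_) hK)
      obtain ⟨g, rfl⟩ := φ.surjective y
      exact ⟨(hkr g).2 (h g hy), hK' hy⟩
    · refine Or.inr (le_antisymm hK' fun y hy => ?_)
      obtain ⟨g, rfl⟩ := φ.surjective y
      have : g ∈ K.comap φ.toMonoidHom := h ▸ (homg g).1 hy
      exact this

end CfsgLib.Classical.TensorWreathO
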