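import Cfsg.Agent.Lib.Classical.TensorWreathO.Basic
import Cfsg.Agent.Lib.Classical.OrthOverfieldU

set_option autoImplicit false
set_option linter.unusedSectionVars false

/-!
When the root groups of the planes of pure vectors which differ at one factor lie in the group, those of all the
singular planes do.
-/

namespace CfsgLib.Classical.TensorWreathO

open Matrix CfsgLib.Classical.TensorWreath CfsgLib.Orth CfsgLib.Orth.Overfield
open CfsgLib.Classical.TensorSymp (Sp AForm tv)
open CfsgLib.Classical.TensorWreathS (tnv)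
open scoped MatrixGroups Kronecker

variable {F : Type*} [Field F] [Finite F] [DecidableEq F] {τ : Type} [Fintype τ] [DecidableEq τ] {m : ℕ}
variable {J : Matrix (Fin m) (Fin m) F} {Q : QuadraticForm F (Ix τ m → F)} {M : Subgroup (GL (Ix τ m) F)}

/-- The group inside the isometries. -/
abbrev MQ (Q : QuadraticForm F (Ix τ m → F)) (M : Subgroup (GL (Ix τ m) F)) : Subgroup (Grp Q) :=
  M.comap (Subgroup.subtype _)

/-- The plane of two pure vectors is in the group. -/
def Gd (Q : QuadraticForm F (Ix τ m → F)) (M : Subgroup (GL (Ix τ m) F)) (x y : τ → Fin m → F) : Prop :=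
  GoodAt Q (MQ Q M) (tnv x) (tnv y)

/-- All the planes of pure vectors differing at one factor. -/
def RP (Q : QuadraticForm F (Ix τ m → F)) (M : Subgroup (GL (Ix τ m) F)) : Prop :=
  ∀ (c : τ) (x : τ → Fin m → F) (z v : Fin m → F), Gd Q M (Function.update x c z) (Function.update x c v)

/-- The pure vectors of a hyperplane span it. -/
theorem mem_span_pure (f : (Ix τ m → F) →ₗ[F] F) {p : τ → Fin m → F} (h1 : f (tnv p) = 1)
    {x : Ix τ m → F} (hx : f x = 0) :
    x ∈ Submodule.span F {y | ∃ a, y = tnv a ∧ f y = 0} := by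
  classical
  obtain ⟨W, hW⟩ : ∃ W, W = Submodule.span F {y : Ix τ m → F | ∃ a, y = tnv a ∧ f y = 0} := ⟨_, rfl⟩
  rw [← hW]
  have hpure : ∀ a, f (tnv a) = 0 → tnv a ∈ W := fun a h => hW ▸ Submodule.subset_span ⟨a, rfl, h⟩
  have main : ∀ (n : ℕ) (p y : τ → Fin m → F), f (tnv p) = 1 → (Finset.univ.filter fun j => y j ≠ p j).card = n →
      tnv y - f (tnv y) • tnv p ∈ W := by
    intro n
    induction n using Nat.strong_induction_on with
    | _ n IH =>
    intro p y hp hn
    by_cases hn0 : n = 0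
    · subst hn0
      have : y = p := funext fun j => by
        by_contra h
        rw [Finset.card_eq_zero, Finset.filter_eq_empty_iff] at hn
        exact hn (Finset.mem_univ j) h
      rw [this, hp, one_smul, sub_self]
      exact W.zero_mem
    obtain ⟨j, hj⟩ := Finset.card_pos.1 (show 0 < (Finset.univ.filter fun j => y j ≠ p j).card by omega)
    have hjne : y j ≠ p j := (Finset.mem_filter.1 hj).2
    have less : ∀ a b : τ → Fin m → F, a j = b j → (∀ k, k ≠ j → a k = y k) → (∀ k, k ≠ j → b k = p k) →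
        (Finset.univ.filter fun k => a k ≠ b k).card < n := fun a b hab ha hb => by
      rw [← hn]
      refine Finset.card_lt_card ⟨fun k hk => ?_, fun hsub => ?_⟩
      · have hkab := (Finset.mem_filter.1 hk).2
        have hkj : k ≠ j := fun e => hkab (e ▸ hab)
        rw [ha k hkj, hb k hkj] at hkab
        exact Finset.mem_filter.2 ⟨Finset.mem_univ k, hkab⟩
      · exact (Finset.mem_filter.1 (hsub hj)).2 hab
    obtain ⟨y', hy'⟩ : ∃ y', y' = Function.update y j (p j) := ⟨_, rfl⟩
    obtain ⟨p', hp'⟩ : ∃ p', p' = Function.update p j (y j) := ⟨_, rfl⟩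
    have i1 := IH _ (less y' p (by rw [hy', Function.update_self]) (fun k hk => by rw [hy', Function.update_of_ne hk])
      fun k _ => rfl) p y' hp rfl
    by_cases hfy : f (tnv y') ≠ 0
    · -- one step
      obtain ⟨a, ha⟩ : ∃ a, a = Function.update y j (f (tnv y') • y j - f (tnv y) • p j) := ⟨_, rfl⟩
      have e : tnv a = f (tnv y') • tnv y - f (tnv y) • tnv y' := by
        rw [ha, tnv_update_sub, tnv_update_smul, tnv_update_smul, Function.update_eq_self, hy']
      have i2 : tnv a ∈ W := hpure a (by rw [e, map_sub, map_smul, map_smul, smul_eq_mul, smul_eq_mul, mul_comm, sub_self])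
      refine (W.smul_mem_iff hfy).1 ?_
      rw [show f (tnv y') • (tnv y - f (tnv y) • tnv p) = tnv a + f (tnv y) • (tnv y' - f (tnv y') • tnv p) by
        rw [e]; module]
      exact W.add_mem i2 (W.smul_mem _ i1)
    rw [not_ne_iff] at hfy
    by_cases hfp : f (tnv p') ≠ 0
    · obtain ⟨p₁, hp₁⟩ : ∃ p₁, p₁ = Function.update p j ((f (tnv p'))⁻¹ • y j) := ⟨_, rfl⟩
      obtain ⟨y₁, hy₁⟩ : ∃ y₁, y₁ = Function.update y j ((f (tnv p'))⁻¹ • y j) := ⟨_, rfl⟩
      have ep : tnv p₁ = (f (tnv p'))⁻¹ • tnv p' := by rw [hp₁, tnv_update_smul, hp']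
      have ey : tnv y₁ = (f (tnv p'))⁻¹ • tnv y := by rw [hy₁, tnv_update_smul, Function.update_eq_self]
      have i2 := IH _ (less y₁ p₁ (by rw [hy₁, hp₁, Function.update_self, Function.update_self])
        (fun k hk => by rw [hy₁, Function.update_of_ne hk]) fun k hk => by rw [hp₁, Function.update_of_ne hk])
        p₁ y₁ (by rw [ep, map_smul, smul_eq_mul, inv_mul_cancel₀ hfp]) rfl
      have i3 : tnv p' - f (tnv p') • tnv p ∈ W := by
        obtain ⟨a, ha⟩ : ∃ a, a = Function.update p j (y j - f (tnv p') • p j) := ⟨_, rfl⟩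
        have e : tnv a = tnv p' - f (tnv p') • tnv p := by
          rw [ha, tnv_update_sub, tnv_update_smul, Function.update_eq_self, hp']
        rw [← e]
        exact hpure a (by rw [e, map_sub, map_smul, hp, smul_eq_mul, mul_one, sub_self])
      rw [ey, ep, map_smul, smul_eq_mul] at i2
      refine (W.smul_mem_iff (inv_ne_zero hfp)).1 ?_
      rw [show (f (tnv p'))⁻¹ • (tnv y - f (tnv y) • tnv p) =
          ((f (tnv p'))⁻¹ • tnv y - ((f (tnv p'))⁻¹ * f (tnv y)) • (f (tnv p'))⁻¹ • tnv p') +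
            ((f (tnv p'))⁻¹ * f (tnv y) * (f (tnv p'))⁻¹) • (tnv p' - f (tnv p') • tnv p) by
        simp only [smul_sub, smul_smul, mul_assoc, inv_mul_cancel₀ hfp, mul_one]
        abel]
      exact W.add_mem i2 (W.smul_mem _ i3)
    rw [not_ne_iff] at hfp
    obtain ⟨z, hz⟩ : ∃ z, z = Function.update y j (y j + p j) := ⟨_, rfl⟩
    obtain ⟨p'', hp''⟩ : ∃ p'', p'' = Function.update p j (y j + p j) := ⟨_, rfl⟩
    have ez : tnv z = tnv y + tnv y' := by rw [hz, tnv_update_add, Function.update_eq_self, hy']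
    have ep : tnv p'' = tnv p' + tnv p := by rw [hp'', tnv_update_add, Function.update_eq_self, hp']
    have i2 := IH _ (less z p'' (by rw [hz, hp'', Function.update_self, Function.update_self])
      (fun k hk => by rw [hz, Function.update_of_ne hk]) fun k hk => by rw [hp'', Function.update_of_ne hk])
      p'' z (by rw [ep, map_add, hfp, hp, zero_add]) rfl
    rw [ez, ep, map_add, hfy, add_zero] at i2
    rw [show tnv y - f (tnv y) • tnv p = (tnv y + tnv y' - f (tnv y) • (tnv p' + tnv p)) - tnv y' + f (tnv y) • tnv p'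
      by module]
    exact W.add_mem (W.sub_mem i2 (hpure _ hfy)) (W.smul_mem _ (hpure _ hfp))
  obtain ⟨π, hπ⟩ : ∃ π : (Ix τ m → F) →ₗ[F] (Ix τ m → F), π = LinearMap.id - f.smulRight (tnv p) := ⟨_, rfl⟩
  have hπx : ∀ z, π z = z - f z • tnv p := fun z => by rw [hπ]; rfl
  have hall : ∀ z, π z ∈ W := by
    intro z
    rw [pi_eq_sum_univ' z, map_sum]
    refine Submodule.sum_mem _ fun q _ => ?_
    rw [map_smul]
    refine Submodule.smul_mem _ _ ?_
    rw [hπx, single_eq_tnv]
    exact main _ p _ h1 rfl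
  have := hall x
  rwa [hπx, hx, zero_smul, sub_zero] at this

/-- A vector orthogonal to a non-zero one in a plane. -/
theorem eq_smul_of_orth_two {J : Matrix (Fin 2) (Fin 2) F} (hJ : AForm J) {x y : Fin 2 → F} (hx : x ≠ 0)
    (h : x ⬝ᵥ J *ᵥ y = 0) : ∃ c : F, y = c • x := by
  have h00 : ∀ i, J i i = 0 := fun i => by
    have := hJ.alt (Pi.single i 1)
    simpa [Matrix.mulVec_single, single_dotProduct] using this
  have h10 : J 1 0 = -J 0 1 := by
    have := congrFun₂ hJ.skew 0 1
    simpa using this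
  have ha : J 0 1 ≠ 0 := fun e => hJ.det_ne (by rw [Matrix.det_fin_two, h00, h00, h10, e]; ring)
  have e : x 0 * y 1 = x 1 * y 0 := by
    simp only [dotProduct, Matrix.mulVec, Fin.sum_univ_two, h00, h10] at h
    have : J 0 1 * (x 0 * y 1 - x 1 * y 0) = 0 := by linear_combination h
    exact sub_eq_zero.1 ((mul_eq_zero.1 this).resolve_left ha)
  by_cases h0 : x 0 = 0
  · have h1 : x 1 ≠ 0 := fun h1 => hx (funext fun i => by fin_cases i <;> simp [h0, h1])
    refine ⟨y 1 / x 1, funext fun i => ?_⟩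
    fin_cases i
    · rw [h0, zero_mul, eq_comm, mul_eq_zero] at e
      simp [h0, e.resolve_left h1]
    · simp [div_mul_cancel₀ _ h1]
  · refine ⟨y 0 / x 0, funext fun i => ?_⟩
    fin_cases i
    · simp [div_mul_cancel₀ _ h0]
    · show y 1 = y 0 / x 0 * x 1
      rw [div_mul_eq_mul_div, eq_div_iff h0]
      linear_combination e

namespace Hyp

variable (H : Hyp J Q M)
include H

theorem gd_zero {x y : τ → Fin m → F} {j : τ} (h : y j = 0) : Gd Q M x y := by
  rw [Gd, tnv_eq_zero h]
  exact goodAt_zero (H.pure x)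

theorem gd_symm {x y : τ → Fin m → F} (h : Gd Q M x y) : Gd Q M y x := goodAt_symm (H.pure x) (H.pure y) h

theorem gd_smul {x y : τ → Fin m → F} (j : τ) (c : F) (h : Gd Q M x y) :
    Gd Q M x (Function.update y j (c • y j)) := by
  rw [Gd, tnv_update_smul, Function.update_eq_self]
  exact goodAt_smul h c

/-- A root element of a good plane moves good vectors to good vectors. -/
theorem good_disp {p p' x : τ → Fin m → F} {x' : Ix τ m → F} (hp : Gd Q M p p')
    (h1 : QuadraticMap.polar ⇑Q (tnv x) (tnv p) = 0) (h2 : QuadraticMap.polar ⇑Q (tnv x) (tnv p') = 0)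
    (hx' : GoodAt Q (MQ Q M) (tnv x) x') (h3 : QuadraticMap.polar ⇑Q x' (tnv p) = 0)
    (h4 : QuadraticMap.polar ⇑Q x' (tnv p') ≠ 0) : Gd Q M x p := by
  obtain ⟨g, hg⟩ := exists_siegel H.nondeg (H.pure p) hp.1
  have hgM : g ∈ MQ Q M := hp.2 1 g (by rwa [one_smul])
  have hfix : ap g (tnv x) = tnv x := siegel_fix hg h1 h2
  have := goodAt_conj hgM hx'
  rw [hfix, hg.2.2, h3, zero_smul, add_zero, mul_zero, zero_smul, sub_zero] at this
  have h5 := goodAt_smul (goodAt_sub H.nondeg (H.pure x) hx' this) (QuadraticMap.polar ⇑Q x' (tnv p'))⁻¹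
  rwa [sub_sub_cancel, smul_smul, inv_mul_cancel₀ h4, one_smul] at h5

/-- Linearity reduces the number of orthogonal factors. -/
theorem gd_reduce {N : ℕ} (hN : 1 ≤ N)
    (base : ∀ x y : τ → Fin m → F, (∀ j, x j ≠ 0) → (∀ j, y j ≠ 0) →
      (Finset.univ.filter fun j => x j ⬝ᵥ J *ᵥ y j = 0).card = N → Gd Q M x y) :
    ∀ x y : τ → Fin m → F, (∀ j, x j ≠ 0) → (∀ j, y j ≠ 0) →
      N ≤ (Finset.univ.filter fun j => x j ⬝ᵥ J *ᵥ y j = 0).card → Gd Q M x y := by
  classical
  suffices ∀ (n : ℕ) (x y : τ → Fin m → F), (∀ j, x j ≠ 0) → (∀ j, y j ≠ 0) →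
      (Finset.univ.filter fun j => x j ⬝ᵥ J *ᵥ y j = 0).card = N + n → Gd Q M x y from
    fun x y hx hy h => this _ x y hx hy (Nat.add_sub_cancel' h).symm
  intro n
  induction n with
  | zero => exact base
  | succ n IH =>
    intro x y hx hy hn
    obtain ⟨i, hi⟩ := Finset.card_pos.1 (show 0 < (Finset.univ.filter fun j => x j ⬝ᵥ J *ᵥ y j = 0).card by omega)
    obtain ⟨z, hz⟩ := H.hJ.exists_form_ne (hx i)
    have hz' : x i ⬝ᵥ J *ᵥ z = -1 := by rw [H.swap, dotProduct_comm, hz]
    have key : ∀ v, x i ⬝ᵥ J *ᵥ v = -1 → Gd Q M x (Function.update y i v) := fun v hv => by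
      refine IH x _ hx (fun j => ?_) ?_
      · by_cases h : j = i
        · subst h
          rw [Function.update_self]
          intro e
          rw [e, Matrix.mulVec_zero, dotProduct_zero, zero_eq_neg] at hv
          exact one_ne_zero hv
        · rw [Function.update_of_ne h]; exact hy j
      · have e : (Finset.univ.filter fun j => x j ⬝ᵥ J *ᵥ Function.update y i v j = 0) =
            (Finset.univ.filter fun j => x j ⬝ᵥ J *ᵥ y j = 0).erase i := by
          ext j
          by_cases h : j = i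
          · subst h; simp [hv]
          · simp [h]
        rw [e, Finset.card_erase_of_mem hi]
        omega
    have e : tnv y = tnv (Function.update y i (y i + z)) - tnv (Function.update y i z) := by
      rw [tnv_update_add, add_sub_cancel_right, Function.update_eq_self]
    rw [Gd, e]
    exact goodAt_sub H.nondeg (H.pure x) (key _ (by rw [Matrix.mulVec_add, dotProduct_add, (Finset.mem_filter.1 hi).2,
      hz', zero_add])) (key _ hz')

theorem gd_one_large (hRP : RP Q M) (hm : 3 ≤ m) (x y : τ → Fin m → F) (hx : ∀ j, x j ≠ 0) (hy : ∀ j, y j ≠ 0)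
    (hO : (Finset.univ.filter fun j => x j ⬝ᵥ J *ᵥ y j = 0).card = 1) : Gd Q M x y := by
  obtain ⟨i, hi⟩ := Finset.card_eq_one.1 hO
  have hii : x i ⬝ᵥ J *ᵥ y i = 0 := (Finset.mem_filter.1 (hi ▸ Finset.mem_singleton_self i : i ∈ _)).2
  obtain ⟨θ, hθ⟩ := TensorMax.exists_dual_one (hy i)
  obtain ⟨e, he, he'⟩ := TensorMax.exists_orth ![J *ᵥ x i, θ] (by simp; omega)
  have e1 : x i ⬝ᵥ J *ᵥ e = 0 := by
    rw [H.swap, dotProduct_comm, show (J *ᵥ x i) ⬝ᵥ e = 0 from he' 0, neg_zero]
  have hey : ∀ c : F, e ≠ c • y i := fun c hc => he (by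
    have h := he' 1
    simp only [Matrix.cons_val_one, Matrix.cons_val_zero, hc, dotProduct_smul, hθ, smul_eq_mul, mul_one] at h
    rw [hc, h, zero_smul])
  obtain ⟨w, w1, w2⟩ := H.hJ.exists_perp_ne (hy i) hey 0 1
  have pzero : ∀ (a b : τ → Fin m → F), a i ⬝ᵥ J *ᵥ b i = 0 → QuadraticMap.polar ⇑Q (tnv a) (tnv b) = 0 :=
    fun a b h => by rw [H.polar_tnv]; exact Finset.prod_eq_zero (Finset.mem_univ i) h
  have hplane := hRP i y (y i) e
  rw [Function.update_eq_self] at hplane
  have hmove := hRP i x (x i) w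
  rw [Function.update_eq_self] at hmove
  refine H.good_disp hplane (pzero _ _ hii) (pzero _ _ (by rw [Function.update_self, e1])) hmove
    (pzero _ _ (by rw [Function.update_self, dotProduct_comm, w1])) ?_
  rw [H.polar_tnv]
  refine Finset.prod_ne_zero_iff.2 fun j _ => ?_
  by_cases hj : j = i
  · subst hj
    rw [Function.update_self, Function.update_self, dotProduct_comm, w2]
    exact one_ne_zero
  · rw [Function.update_of_ne hj, Function.update_of_ne hj]
    intro h0
    exact hj (Finset.mem_singleton.1 (hi ▸ Finset.mem_filter.2 ⟨Finset.mem_univ j, h0⟩))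

/-- Adjusting the orthogonal factors to be equal. -/
theorem gd_rescale {x y : τ → Fin m → F} (i : τ) (c : F) (hc : y i = c • x i)
    (h : Gd Q M x (Function.update y i (x i))) : Gd Q M x y := by
  have := H.gd_smul i c h
  rwa [Function.update_idem, Function.update_self, ← hc, Function.update_eq_self] at this

end Hyp

namespace Hyp

variable {J : Matrix (Fin 2) (Fin 2) F} {Q : QuadraticForm F (Ix τ 2 → F)} {M : Subgroup (GL (Ix τ 2) F)}
variable (H : Hyp J Q M)
include H

theorem gd_two_two (hRP : RP Q M) (x y : τ → Fin 2 → F) (hx : ∀ j, x j ≠ 0)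
    (hO : (Finset.univ.filter fun j => x j ⬝ᵥ J *ᵥ y j = 0).card = 2) : Gd Q M x y := by
  obtain ⟨i, c, hic, hOic⟩ := Finset.card_eq_two.1 hO
  have hmem : ∀ j, x j ⬝ᵥ J *ᵥ y j = 0 ↔ j = i ∨ j = c := fun j => by
    have : j ∈ (Finset.univ.filter fun j => x j ⬝ᵥ J *ᵥ y j = 0) ↔ j ∈ ({i, c} : Finset τ) := by rw [hOic]
    simpa using this
  obtain ⟨a, ha⟩ := eq_smul_of_orth_two H.hJ (hx i) ((hmem i).2 (Or.inl rfl))
  obtain ⟨b, hb⟩ := eq_smul_of_orth_two H.hJ (hx c) ((hmem c).2 (Or.inr rfl))
  refine H.gd_rescale i a ha (H.gd_rescale c b (by rwa [Function.update_of_ne (Ne.symm hic)]) ?_)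
  obtain ⟨z, hz⟩ : ∃ z, z = Function.update (Function.update y i (x i)) c (x c) := ⟨_, rfl⟩
  have zi : z i = x i := by rw [hz, Function.update_of_ne hic, Function.update_self]
  have zc : z c = x c := by rw [hz, Function.update_self]
  have zj : ∀ j, j ≠ i → j ≠ c → z j = y j := fun j h1 h2 => by
    rw [hz, Function.update_of_ne h2, Function.update_of_ne h1]
  rw [← hz]
  obtain ⟨e, he⟩ := H.hJ.exists_form_ne (hx c)
  obtain ⟨w, hw⟩ := H.hJ.exists_form_ne (hx i)
  have hplane := hRP c z (z c) e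
  rw [Function.update_eq_self] at hplane
  have hmove := hRP i x (x i) w
  rw [Function.update_eq_self] at hmove
  refine H.good_disp hplane ?_ ?_ hmove ?_ ?_
  · rw [H.polar_tnv]
    exact Finset.prod_eq_zero (Finset.mem_univ i) (by rw [zi, H.self])
  · rw [H.polar_tnv]
    exact Finset.prod_eq_zero (Finset.mem_univ i) (by rw [Function.update_of_ne hic, zi, H.self])
  · rw [H.polar_tnv]
    exact Finset.prod_eq_zero (Finset.mem_univ c) (by rw [Function.update_of_ne (Ne.symm hic), zc, H.self])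
  · rw [H.polar_tnv]
    refine Finset.prod_ne_zero_iff.2 fun j _ => ?_
    by_cases hji : j = i
    · subst hji
      rw [Function.update_self, Function.update_of_ne hic, zi, dotProduct_comm, hw]
      exact one_ne_zero
    rw [Function.update_of_ne hji]
    by_cases hjc : j = c
    · subst hjc
      rw [Function.update_self, H.swap, dotProduct_comm, he]
      exact neg_ne_zero.2 one_ne_zero
    rw [Function.update_of_ne hjc, zj j hji hjc]
    exact fun h => ((hmem j).1 h).elim hji hjc

theorem gd_one_two (hRP : RP Q M) (x y : τ → Fin 2 → F) (hx : ∀ j, x j ≠ 0) (hy : ∀ j, y j ≠ 0)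
    (hO : (Finset.univ.filter fun j => x j ⬝ᵥ J *ᵥ y j = 0).card = 1) : Gd Q M x y := by
  classical
  have four : 4 ≤ Fintype.card τ := by
    by_contra h
    have h1 := H.dim
    rw [show Fintype.card (Ix τ 2) = 2 ^ Fintype.card τ by simp] at h1
    have : 2 ^ Fintype.card τ ≤ 2 ^ 3 := Nat.pow_le_pow_right (by norm_num) (by omega)
    omega
  have two := H.gd_reduce (N := 2) (by norm_num) fun x y hx _ h => H.gd_two_two hRP x y hx h
  obtain ⟨i, hi⟩ := Finset.card_eq_one.1 hO
  have hmem : ∀ j, x j ⬝ᵥ J *ᵥ y j = 0 ↔ j = i := fun j => by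
    have : j ∈ (Finset.univ.filter fun j => x j ⬝ᵥ J *ᵥ y j = 0) ↔ j ∈ ({i} : Finset τ) := by rw [hi]
    simpa using this
  obtain ⟨a, ha⟩ := eq_smul_of_orth_two H.hJ (hx i) ((hmem i).2 rfl)
  refine H.gd_rescale i a ha ?_
  obtain ⟨z, hz⟩ : ∃ z, z = Function.update y i (x i) := ⟨_, rfl⟩
  have zi : z i = x i := by rw [hz, Function.update_self]
  have zj : ∀ j, j ≠ i → z j = y j := fun j h => by rw [hz, Function.update_of_ne h]
  have zne : ∀ j, z j ≠ 0 := fun j => by
    by_cases h : j = i
    · subst h; rw [zi]; exact hx _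
    · rw [zj j h]; exact hy j
  rw [← hz]
  obtain ⟨c, hc, d, hd, hcd⟩ := Finset.one_lt_card.1 (show 1 < (Finset.univ.erase i).card by
    rw [Finset.card_erase_of_mem (Finset.mem_univ _), Finset.card_univ]; omega)
  have hci : c ≠ i := Finset.ne_of_mem_erase hc
  have hdi : d ≠ i := Finset.ne_of_mem_erase hd
  obtain ⟨l, hl⟩ : (((Finset.univ.erase i).erase c).erase d).Nonempty := Finset.card_pos.1 (by
    rw [Finset.card_erase_of_mem (Finset.mem_erase.2 ⟨Ne.symm hcd, hd⟩), Finset.card_erase_of_mem hc,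
      Finset.card_erase_of_mem (Finset.mem_univ _), Finset.card_univ]; omega)
  simp only [Finset.mem_erase] at hl
  obtain ⟨hld, hlc, hli, -⟩ := hl
  obtain ⟨q, hq⟩ : ∃ q, q = Function.update z d (z d + x d) := ⟨_, rfl⟩
  have qd : x d ⬝ᵥ J *ᵥ (z d + x d) ≠ 0 := by
    rw [Matrix.mulVec_add, dotProduct_add, H.self, add_zero, zj d hdi]
    exact fun h => hdi ((hmem d).1 h)
  have qne : ∀ j, q j ≠ 0 := fun j => by
    by_cases h : j = d
    · subst h
      rw [hq, Function.update_self]
      exact fun e => qd (by rw [e, Matrix.mulVec_zero, dotProduct_zero])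
    · rw [hq, Function.update_of_ne h]; exact zne j
  have hzq : Gd Q M z q := two z q zne qne (by
    refine le_trans (le_of_eq (Finset.card_pair (Ne.symm hci)).symm) (Finset.card_le_card fun j hj => ?_)
    refine Finset.mem_filter.2 ⟨Finset.mem_univ j, ?_⟩
    rcases Finset.mem_insert.1 hj with rfl | hj
    · rw [hq, Function.update_of_ne (Ne.symm hdi), H.self]
    · rw [Finset.mem_singleton.1 hj, hq, Function.update_of_ne hcd, H.self])
  obtain ⟨w, hw⟩ := H.hJ.exists_form_ne (hx i)
  have hw0 : w ≠ 0 := fun e => by rw [e, dotProduct_zero] at hw; exact zero_ne_one hw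
  obtain ⟨y0, hy0⟩ : ∃ y0, y0 = Function.update (Function.update x i w) d (z d) := ⟨_, rfl⟩
  have y0ne : ∀ j, y0 j ≠ 0 := fun j => by
    by_cases h : j = d
    · subst h; rw [hy0, Function.update_self]; exact zne _
    by_cases h' : j = i
    · subst h'; rw [hy0, Function.update_of_ne h, Function.update_self]; exact hw0
    · rw [hy0, Function.update_of_ne h, Function.update_of_ne h']; exact hx j
  have hxy0 : Gd Q M x y0 := two x y0 hx y0ne (by
    refine le_trans (le_of_eq (Finset.card_pair (Ne.symm hlc)).symm) (Finset.card_le_card fun j hj => ?_)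
    refine Finset.mem_filter.2 ⟨Finset.mem_univ j, ?_⟩
    rcases Finset.mem_insert.1 hj with rfl | hj
    · rw [hy0, Function.update_of_ne hcd, Function.update_of_ne hci, H.self]
    · rw [Finset.mem_singleton.1 hj, hy0, Function.update_of_ne hld, Function.update_of_ne hli, H.self])
  refine H.good_disp hzq ?_ ?_ hxy0 ?_ ?_
  · rw [H.polar_tnv]
    exact Finset.prod_eq_zero (Finset.mem_univ i) (by rw [zi, H.self])
  · rw [H.polar_tnv]
    exact Finset.prod_eq_zero (Finset.mem_univ i) (by rw [hq, Function.update_of_ne (Ne.symm hdi), zi, H.self])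
  · rw [H.polar_tnv]
    exact Finset.prod_eq_zero (Finset.mem_univ d) (by rw [hy0, Function.update_self, H.self])
  · rw [H.polar_tnv]
    refine Finset.prod_ne_zero_iff.2 fun j _ => ?_
    by_cases hjd : j = d
    · subst hjd
      rw [hy0, hq, Function.update_self, Function.update_self, Matrix.mulVec_add, dotProduct_add, H.self, zero_add,
        H.swap, neg_ne_zero, zj _ hdi]
      exact fun h => hdi ((hmem _).1 h)
    rw [hy0, hq, Function.update_of_ne hjd, Function.update_of_ne hjd]
    by_cases hji : j = i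
    · subst hji
      rw [Function.update_self, zi, dotProduct_comm, hw]
      exact one_ne_zero
    · rw [Function.update_of_ne hji, zj j hji]
      exact fun h => hji ((hmem j).1 h)

end Hyp

namespace Hyp

variable {J : Matrix (Fin m) (Fin m) F} {Q : QuadraticForm F (Ix τ m → F)} {M : Subgroup (GL (Ix τ m) F)}
variable (H : Hyp J Q M)
include H

/-- Orthogonal pure vectors are good. -/
theorem gd_all (hRP : RP Q M) {x y : τ → Fin m → F} (h : QuadraticMap.polar ⇑Q (tnv x) (tnv y) = 0) :
    Gd Q M x y := by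
  by_cases hy : ∃ j, y j = 0
  · obtain ⟨j, hj⟩ := hy; exact H.gd_zero hj
  by_cases hx : ∃ j, x j = 0
  · obtain ⟨j, hj⟩ := hx; exact H.gd_symm (H.gd_zero hj)
  push Not at hy hx
  rw [H.polar_tnv, Finset.prod_eq_zero_iff] at h
  obtain ⟨j, -, hj⟩ := h
  refine H.gd_reduce (N := 1) le_rfl (fun x y hx hy h => ?_) x y hx hy
    (Finset.card_pos.2 ⟨j, Finset.mem_filter.2 ⟨Finset.mem_univ j, hj⟩⟩)
  by_cases hm : 3 ≤ m
  · exact H.gd_one_large hRP hm x y hx hy h
  obtain rfl : m = 2 := by have := H.two_le; omega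
  exact H.gd_one_two hRP x y hx hy h

theorem good_of_pure {u x : Ix τ m → F} (hu : Q u = 0) (hu0 : u ≠ 0)
    (hp : ∀ a, QuadraticMap.polar ⇑Q u (tnv a) = 0 → GoodAt Q (MQ Q M) u (tnv a))
    (hx : QuadraticMap.polar ⇑Q u x = 0) : GoodAt Q (MQ Q M) u x := by
  classical
  haveI := H.neZero
  obtain ⟨a, ha⟩ : ∃ a, QuadraticMap.polar ⇑Q u (tnv a) ≠ 0 := by
    by_contra hc
    push Not at hc
    refine hu0 (H.nondeg u fun y => ?_)
    rw [← QuadraticMap.polarBilin_apply_apply, pi_eq_sum_univ' y, map_sum]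
    refine Finset.sum_eq_zero fun p _ => ?_
    rw [map_smul, single_eq_tnv, QuadraticMap.polarBilin_apply_apply, hc, smul_zero]
  obtain ⟨i⟩ : Nonempty τ := Fintype.card_pos_iff.1 (by have := H.card_two; omega)
  obtain ⟨s, hs⟩ : ∃ s, s = (QuadraticMap.polar ⇑Q u (tnv a))⁻¹ := ⟨_, rfl⟩
  have h1 : QuadraticMap.polarBilin Q u (tnv (Function.update a i (s • a i))) = 1 := by
    rw [tnv_update_smul, Function.update_eq_self, map_smul, QuadraticMap.polarBilin_apply_apply, smul_eq_mul, hs,
      inv_mul_cancel₀ ha]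
  refine goodAt_span H.nondeg hu ?_ (mem_span_pure (QuadraticMap.polarBilin Q u) h1 hx)
  rintro y ⟨a, rfl, hy⟩
  exact hp a hy

/-- All the planes give the whole of `Ω`. -/
theorem omega_le (hRP : RP Q M) : Cfsg.Geo.omegaGL ⇑Q ≤ M := by
  have hgood : ∀ u x, Q u = 0 → u ≠ 0 → QuadraticMap.polar ⇑Q u x = 0 → GoodAt Q (MQ Q M) u x := by
    intro u x hu hu0 hx
    refine H.good_of_pure hu hu0 (fun a ha => ?_) hx
    by_cases hp : tnv a = (0 : Ix τ m → F)
    · rw [hp]; exact goodAt_zero hu
    exact goodAt_symm (H.pure a) hu (H.good_of_pure (H.pure a) hp (fun b hb => H.gd_all hRP hb)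
      (by rw [b_comm]; exact ha))
  have hEl : El Q ≤ MQ Q M := by
    refine (Subgroup.closure_le _).2 fun g hg => ?_
    obtain ⟨u, v, h⟩ := hg
    by_cases hu : u = 0
    · have : g = 1 := ext_ap fun x => by
        rw [h.2.2, ap_one, hu, b_zero_right, mul_zero, zero_smul, zero_smul, smul_zero, add_zero, sub_zero,
          sub_zero]
      rw [this]
      exact one_mem _
    · exact (hgood u v h.1 hu h.2.1).2 1 g (by rwa [one_smul])
  rintro x ⟨g, hg, rfl⟩
  exact hEl (by rwa [← omega_eq_El H.nondeg H.five_le_dim])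

end Hyp

end CfsgLib.Classical.TensorWreathO
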