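import Cfsg.Agent.Lib.Classical.TensorWreathO.Planes
import Cfsg.Agent.Lib.Classical.TensorWreathS.SpreadEven
import Cfsg.Agent.Lib.Classical.TensorWreathS.AllMono

set_option autoImplicit false
set_option linter.unusedSectionVars false

/-!
Root elements of planes of pure vectors: conjugation, and the odd characteristic dichotomy.
-/

namespace CfsgLib.Classical.TensorWreathO

open Matrix CfsgLib.Classical.TensorWreath CfsgLib.Orth CfsgLib.Orth.Overfield
open CfsgLib.Classical.TensorSymp (Sp AForm tv)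
open CfsgLib.Classical.TensorWreathS (JJ nu gm tnv pureM_mulVec_tnv Ele pureM_update_embM)
open scoped MatrixGroups Kronecker

variable {F : Type*} [Field F] [Finite F] [DecidableEq F] {τ : Type} [Fintype τ] [DecidableEq τ] {m : ℕ}
variable {J : Matrix (Fin m) (Fin m) F} {Q : QuadraticForm F (Ix τ m → F)} {M : Subgroup (GL (Ix τ m) F)}

theorem pureM_vmv (a b : τ → Fin m → F) :
    pureM (fun j => Matrix.vecMulVec (a j) (b j)) = Matrix.vecMulVec (tnv a) (tnv b) := by
  ext p q
  simp only [pureM_apply, Matrix.vecMulVec_apply, tnv, ← Finset.prod_mul_distrib]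

theorem pureM_update_sub (f : τ → Matrix (Fin m) (Fin m) F) (d : τ) (A B : Matrix (Fin m) (Fin m) F) :
    pureM (Function.update f d (A - B)) = pureM (Function.update f d A) - pureM (Function.update f d B) := by
  rw [pureM_update_embM, pureM_update_embM f d A, pureM_update_embM f d B, embM_sub, mul_sub]

theorem permM_mulVec_pure (σ : Equiv.Perm τ) (y : τ → Fin m → F) :
    permM F m σ *ᵥ tnv y = tnv fun j => y (σ.symm j) := by
  funext p
  rw [Matrix.mulVec, dotProduct, Fintype.sum_eq_single (p ∘ σ)]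
  · simp only [permM, Matrix.of_apply, if_true, one_mul, tnv, Function.comp_apply]
    exact Fintype.prod_equiv σ _ _ fun j => by simp
  · intro q hq
    simp [permM, hq]

/-- The root element of a plane as a matrix. -/
theorem plane_mat (c : τ) (x : τ → Fin m → F) (z v : Fin m → F) :
    pureM (Function.update (fun j => nu J (x j)) c (gm J z v)) =
      Matrix.vecMulVec (tnv (Function.update x c v)) (JJ J τ *ᵥ tnv (Function.update x c z)) -
        Matrix.vecMulVec (tnv (Function.update x c z)) (JJ J τ *ᵥ tnv (Function.update x c v)) := by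
  have key : ∀ a b : Fin m → F, Function.update (fun j => nu J (x j)) c (Matrix.vecMulVec a (J *ᵥ b)) =
      fun j => Matrix.vecMulVec (Function.update x c a j) (J *ᵥ Function.update x c b j) := fun a b => by
    funext j
    by_cases h : j = c
    · subst h; simp
    · simp [h, nu]
  rw [pureM_mulVec_tnv, pureM_mulVec_tnv, gm, pureM_update_sub, key, key, pureM_vmv, pureM_vmv]

/-- All the planes of pure vectors differing at the factor `c`. -/
def RPat (Q : QuadraticForm F (Ix τ m → F)) (M : Subgroup (GL (Ix τ m) F)) (c : τ) : Prop :=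
  ∀ (x : τ → Fin m → F) (z v : Fin m → F), Gd Q M (Function.update x c z) (Function.update x c v)

namespace Hyp

variable (H : Hyp J Q M)
include H

theorem inM_pureM {g : τ → Matrix (Fin m) (Fin m) F} (hg : ∀ j, Sp J (g j)) : InM M (pureM g) := by
  suffices h : ∀ s : Finset τ, InM M (pureM (pick s g)) by
    convert h Finset.univ using 2
    funext j; simp [pick]
  intro s
  induction s using Finset.induction with
  | empty => rw [pick_empty]; exact inM_one
  | insert a s ha IH => rw [pick_insert ha]; exact IH.mul (H.inM_embM a (hg a))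

theorem polar_plane (c : τ) (x : τ → Fin m → F) (z v : Fin m → F) :
    QuadraticMap.polar ⇑Q (tnv (Function.update x c z)) (tnv (Function.update x c v)) = 0 := by
  obtain ⟨j, hj⟩ := Fintype.exists_ne_of_one_lt_card (show 1 < Fintype.card τ by have := H.card_two; omega) c
  rw [H.polar_tnv]
  exact Finset.prod_eq_zero (Finset.mem_univ j) (by rw [Function.update_of_ne hj, Function.update_of_ne hj, H.self])

/-- The Siegel element of a plane. -/
theorem siegel_plane {c : τ} {x : τ → Fin m → F} {z v : Fin m → F} {a : F} {g : Grp Q}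
    (hg : IsSiegel (tnv (Function.update x c z)) (a • tnv (Function.update x c v)) g) :
    ((g : GL (Ix τ m) F)).1 = 1 + a • pureM (Function.update (fun j => nu J (x j)) c (gm J z v)) := by
  refine Matrix.ext_iff_mulVec.2 fun y => ?_
  rw [plane_mat, Matrix.add_mulVec, Matrix.one_mulVec, Matrix.smul_mulVec, Matrix.sub_mulVec, Matrix.vecMulVec_mulVec,
    Matrix.vecMulVec_mulVec, op_smul_eq_smul, op_smul_eq_smul]
  have h2 := hg.2.2 y
  rw [q_smul, H.pure, mul_zero, zero_mul, zero_smul, sub_zero, b_smul_right, H.polar, H.polar,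
    dotProduct_comm y, dotProduct_comm y] at h2
  rw [show ((g : GL (Ix τ m) F)).1 *ᵥ y = ap g y from rfl, h2]
  module

theorem gd_of_ele {c : τ} {x : τ → Fin m → F} {z v : Fin m → F}
    (h : Ele M (pureM (Function.update (fun j => nu J (x j)) c (gm J z v)))) :
    Gd Q M (Function.update x c z) (Function.update x c v) := by
  refine ⟨H.polar_plane c x z v, fun a g hg => ?_⟩
  obtain ⟨y, hy, hy'⟩ := h a
  have e : (g : GL (Ix τ m) F) = y := Units.ext ((H.siegel_plane hg).trans hy'.symm)
  show (g : GL (Ix τ m) F) ∈ M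
  rwa [e]

theorem ele_of_gd {c : τ} {x : τ → Fin m → F} {z v : Fin m → F}
    (h : Gd Q M (Function.update x c z) (Function.update x c v)) :
    Ele M (pureM (Function.update (fun j => nu J (x j)) c (gm J z v))) := fun a => by
  obtain ⟨g, hg⟩ := exists_siegel H.nondeg (H.pure (Function.update x c z)) (v := a • tnv (Function.update x c v))
    (by rw [b_smul_right, H.polar_plane c x z v, mul_zero])
  exact ⟨_, h.2 a g hg, H.siegel_plane hg⟩

theorem gd_conj {X : Matrix (Ix τ m) (Ix τ m) F} (hX : InM M X) {x y x' y' : τ → Fin m → F}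
    (hx : X *ᵥ tnv x = tnv x') (hy : X *ᵥ tnv y = tnv y') (h : Gd Q M x y) : Gd Q M x' y' := by
  obtain ⟨g, hg, rfl⟩ := hX
  have := goodAt_conj (g := ⟨g, H.iso_mem hg⟩) hg h
  rwa [show ap (⟨g, H.iso_mem hg⟩ : Grp Q) (tnv x) = tnv x' from hx,
    show ap (⟨g, H.iso_mem hg⟩ : Grp Q) (tnv y) = tnv y' from hy] at this

/-- A root element of a non-degenerate plane gives all the planes at that factor. -/
theorem rpat_of_root {c : τ} {x₀ : τ → Fin m → F} {z₀ v₀ : Fin m → F} (hx₀ : ∀ j, j ≠ c → x₀ j ≠ 0)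
    (h01 : (J *ᵥ z₀) ⬝ᵥ v₀ = 1) (h : Gd Q M (Function.update x₀ c z₀) (Function.update x₀ c v₀)) :
    RPat Q M c := by
  have hJ := H.hJ
  have hz₀ : z₀ ≠ 0 := fun e => by simp [e] at h01
  intro x z v
  by_cases hzero : ∃ j, j ≠ c ∧ x j = 0
  · obtain ⟨j, hj, hj0⟩ := hzero
    exact H.gd_zero (j := j) (by rw [Function.update_of_ne hj, hj0])
  push Not at hzero
  by_cases hz : z = 0
  · exact H.gd_symm (H.gd_zero (j := c) (by rw [Function.update_self, hz]))
  have : ∀ j, ∃ S, Sp J S ∧ S *ᵥ (if j = c then z₀ else x₀ j) = (if j = c then z else x j) := fun j => by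
    by_cases hj : j = c
    · rw [if_pos hj, if_pos hj]; exact TensorWreathS.move hJ hz₀ hz
    · rw [if_neg hj, if_neg hj]; exact TensorWreathS.move hJ (hx₀ j hj) (hzero j hj)
  choose S hS hSx using this
  obtain ⟨v₁, hv₁⟩ : ∃ v₁, v₁ = S c *ᵥ v₀ := ⟨_, rfl⟩
  have hSz : S c *ᵥ z₀ = z := by simpa using hSx c
  have hz1 : (J *ᵥ z) ⬝ᵥ v₁ = 1 := by rw [hv₁, ← hSz, hJ.form_image (hS c), h01]
  have g1 : Gd Q M (Function.update x c z) (Function.update x c v₁) := by
    refine H.gd_conj (H.inM_pureM hS) ?_ ?_ h <;> rw [pureM_mulVec_tnv] <;> refine congrArg tnv (funext fun j => ?_)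
    all_goals
      by_cases hj : j = c
      · subst hj; simp [hSz, hv₁]
      · have := hSx j
        rw [if_neg hj, if_neg hj] at this
        simp [hj, this]
  obtain ⟨u, hu⟩ : ∃ u, u = tnv (Function.update x c z) := ⟨_, rfl⟩
  have hQu : Q u = 0 := hu ▸ H.pure _
  obtain ⟨T, hT⟩ : ∃ T : (Fin m → F) → Prop,
      T = fun w => GoodAt Q (MQ Q M) u (tnv (Function.update x c w)) := ⟨_, rfl⟩
  have Tv₁ : T v₁ := by rw [hT, hu]; exact g1
  have Tz : T z := by rw [hT, hu]; exact goodAt_self (H.pure _)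
  have Tsub : ∀ a b, T a → T b → T (a - b) := fun a b ha hb => by
    rw [hT] at ha hb ⊢
    show GoodAt Q (MQ Q M) u _
    rw [tnv_update_sub]
    exact goodAt_sub H.nondeg hQu ha hb
  have Tsmul : ∀ (r : F) a, T a → T (r • a) := fun r a ha => by
    rw [hT] at ha ⊢
    show GoodAt Q (MQ Q M) u _
    rw [tnv_update_smul]
    exact goodAt_smul ha r
  have Tperp : ∀ w, (J *ᵥ w) ⬝ᵥ z = 0 → (J *ᵥ w) ⬝ᵥ v₁ ≠ 0 → T w := by
    intro w hw hwv
    obtain ⟨d, hd⟩ : ∃ d, d = ((J *ᵥ w) ⬝ᵥ v₁)⁻¹ := ⟨_, rfl⟩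
    have T1 : T (v₁ + w) := by
      rw [hT, hu]
      refine H.gd_conj (H.inM_embM c (hJ.sp_tv w d)) ?_ ?_ g1
      · rw [embM_mulVec_tnv, Function.update_self, hJ.tv_apply, hw, mul_zero, zero_smul, add_zero, Function.update_idem]
      · rw [embM_mulVec_tnv, Function.update_self, hJ.tv_apply, hd, inv_mul_cancel₀ hwv, one_smul, Function.update_idem]
    simpa using Tsub _ _ T1 Tv₁
  have Tperp' : ∀ w, (J *ᵥ w) ⬝ᵥ z = 0 → T w := by
    intro w hw
    by_cases hwv : (J *ᵥ w) ⬝ᵥ v₁ = 0
    · have := Tperp (w + z) (by rw [Matrix.mulVec_add, add_dotProduct, hw, hJ.self, add_zero])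
        (by rw [Matrix.mulVec_add, add_dotProduct, hwv, hz1, zero_add]; exact one_ne_zero)
      simpa using Tsub _ _ this Tz
    · exact Tperp w hw hwv
  have main : T v := by
    obtain ⟨r, hr⟩ : ∃ r, r = (J *ᵥ z) ⬝ᵥ v := ⟨_, rfl⟩
    have h1 := Tperp' (v - r • v₁) (by
      rw [hJ.swap, dotProduct_sub, dotProduct_smul, hz1, ← hr, smul_eq_mul, mul_one, sub_self, neg_zero])
    have h2 := Tsub _ _ h1 (Tsmul (-r) _ Tv₁)
    simpa using h2
  rw [hT, hu] at main
  exact main

/-- The setting of the odd characteristic. -/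
theorem toS (h2 : (2 : F) ≠ 0) : TensorWreathS.Hyp J M where
  hJ := H.hJ
  two := h2
  two_le := H.two_le
  card_two := H.card_two
  le g hg := H.gram (H.iso_mem hg)
  emb i _T hT := H.inM_embM i hT

/-- From the planes at one factor to those at all the factors. -/
theorem rp_of_rpat (h2 : (2 : F) ≠ 0) (hev : Even (Fintype.card τ)) {c : τ} (h : RPat Q M c) : RP Q M := by
  haveI := H.neZero
  have hJ := H.hJ
  intro d
  by_cases hdc : d = c
  · subst hdc; exact h
  obtain ⟨e0, he0⟩ : ∃ e0 : Fin m → F, e0 ≠ 0 := ⟨Pi.single 0 1, by simp⟩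
  obtain ⟨e1, he01⟩ := hJ.exists_form_ne he0
  by_cases hm : 3 ≤ m
  · -- leave out another root
    obtain ⟨w, hw, hw'⟩ := TensorMax.exists_orth ![J *ᵥ e0, J *ᵥ e1] (by simp; omega)
    have w0 : (J *ᵥ e0) ⬝ᵥ w = 0 := hw' 0
    have hind : ∀ r : F, w ≠ r • e0 := fun r hr => hw (by
      have h1 : (J *ᵥ e1) ⬝ᵥ w = 0 := hw' 1
      rw [hr, dotProduct_smul, hJ.swap, he01, smul_eq_mul, mul_neg, mul_one, neg_eq_zero] at h1
      rw [hr, h1, zero_smul])
    have hE := H.ele_of_gd (h (fun _ => e0) e0 w)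
    have hP : TensorWreathS.Pure J M (Finset.univ.erase c) {c} := by
      refine ⟨⟨d, Finset.mem_erase.2 ⟨hdc, Finset.mem_univ d⟩⟩,
        Finset.disjoint_singleton_right.2 (Finset.notMem_erase _ _), _,
        ⟨fun j hj => ⟨e0, he0, by rw [Function.update_of_ne (Finset.ne_of_mem_erase hj)]⟩, fun j hj => ?_,
          fun j hjT hjR => ?_⟩, hE⟩
      · rw [Finset.mem_singleton] at hj
        exact ⟨e0, w, he0, hind, w0, by rw [hj, Function.update_self]⟩
      · exact absurd (Finset.mem_erase.2 ⟨fun e => hjR (Finset.mem_singleton.2 e), Finset.mem_univ j⟩) hjT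
    obtain ⟨y, hy, hyE⟩ := hP.root_turn (H.toS h2) hev (by ext j; simp [em']) (Finset.singleton_nonempty c)
      (Finset.mem_erase.2 ⟨hdc, Finset.mem_univ d⟩) he01
    exact H.rpat_of_root hy he01 (H.gd_of_ele hyE)
  · -- an even permutation
    obtain rfl : m = 2 := by have := H.two_le; omega
    have four : 4 ≤ Fintype.card τ := by
      by_contra h4
      have h1 := H.dim
      rw [show Fintype.card (Ix τ 2) = 2 ^ Fintype.card τ by simp] at h1
      have : 2 ^ Fintype.card τ ≤ 2 ^ 3 := Nat.pow_le_pow_right (by norm_num) (by omega)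
      omega
    obtain ⟨l, hl⟩ : ((Finset.univ.erase c).erase d).Nonempty := Finset.card_pos.1 (by
      rw [Finset.card_erase_of_mem (Finset.mem_erase.2 ⟨hdc, Finset.mem_univ d⟩),
        Finset.card_erase_of_mem (Finset.mem_univ _), Finset.card_univ]; omega)
    simp only [Finset.mem_erase] at hl
    obtain ⟨σ, hσd⟩ : ∃ σ, σ = Equiv.swap c d * Equiv.swap c l := ⟨_, rfl⟩
    have hσ : InM M (permM F 2 σ) := H.inM_perm_even σ (by
      rw [hσd, map_mul, Equiv.Perm.sign_swap (Ne.symm hdc), Equiv.Perm.sign_swap (Ne.symm hl.2.1)]; decide)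
    have hσl : σ l = d := by rw [hσd, Equiv.Perm.mul_apply, Equiv.swap_apply_right, Equiv.swap_apply_left]
    have hσc : σ.symm d = l := by rw [Equiv.symm_apply_eq, hσl]
    have hσl' : σ c = l := by
      rw [hσd, Equiv.Perm.mul_apply, Equiv.swap_apply_left, Equiv.swap_apply_of_ne_of_ne hl.2.1 hl.1]
    have hl' : RPat Q M l := by
      intro x z v
      refine H.gd_conj hσ ?_ ?_ (h (fun j => x (σ j)) z v) <;> rw [permM_mulVec_pure] <;>
        refine congrArg tnv (funext fun j => ?_)
      all_goals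
        by_cases hj : j = l
        · subst hj
          rw [show σ.symm j = c from (Equiv.symm_apply_eq _).2 hσl'.symm, Function.update_self, Function.update_self]
        · rw [Function.update_of_ne hj, Function.update_of_ne (fun e => hj (by
            rw [← hσl', ← e, Equiv.apply_symm_apply])), Equiv.apply_symm_apply]
    intro x z v
    refine H.gd_conj hσ ?_ ?_ (hl' (fun j => x (σ j)) z v) <;> rw [permM_mulVec_pure] <;>
      refine congrArg tnv (funext fun j => ?_)
    all_goals
      by_cases hj : j = d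
      · subst hj; rw [hσc, Function.update_self, Function.update_self]
      · rw [Function.update_of_ne hj, Function.update_of_ne (fun e => hj (by
          rw [← hσl, ← e, Equiv.apply_symm_apply])), Equiv.apply_symm_apply]

/-- Odd characteristic, an even number of factors. -/
theorem dichotomy_odd (h2 : (2 : F) ≠ 0) (hev : Even (Fintype.card τ))
    (hq : m = 2 → ∃ s : F, s ≠ 0 ∧ s * s ≠ 1) :
    (∀ g ∈ M, Mono g.1) ∨ M = Cfsg.Geo.omegaGL ⇑Q := by
  by_cases hS : TensorWreathS.SmallAll J M
  · exact Or.inl fun g hg => (H.toS h2).allMono hS hq hg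
  obtain ⟨d, x, z, v, hx, hzv, hE⟩ := (H.toS h2).exists_root_element hev H.inM_perm_even hS
  exact Or.inr (le_antisymm H.le (H.omega_le (H.rp_of_rpat h2 hev (H.rpat_of_root hx hzv (H.gd_of_ele hE)))))

end Hyp

end CfsgLib.Classical.TensorWreathO
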